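import Mathlib

/-! The symmetric group as a Coxeter group of type A: a bound and a homomorphism. -/

set_option autoImplicit false
set_option linter.style.haveILetI false

namespace CfsgLib.CoxeterA

/-- The Coxeter relations of type `A` on `s 0, ..., s (n-1)`. -/
structure Rel {G : Type*} [Group G] (s : ℕ → G) (n : ℕ) : Prop where
  invol : ∀ i, i < n → s i ^ 2 = 1
  braid : ∀ i, i + 1 < n → (s i * s (i + 1)) ^ 3 = 1
  far : ∀ i j, i + 1 < j → j < n → Commute (s i) (s j)

/-- `s k * s (k+1) * ... * s (n-1)`. -/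
def chain {G : Type*} [Group G] (s : ℕ → G) (n k : ℕ) : G := ((List.range' k (n - k)).map s).prod

variable {G : Type*} [Group G] {s : ℕ → G} {n : ℕ}

theorem chain_self (s : ℕ → G) (n : ℕ) : chain s n n = 1 := by simp [chain]

theorem chain_succ (s : ℕ → G) {n k : ℕ} (h : k < n) : chain s n k = s k * chain s n (k + 1) := by
  rw [chain, chain, show n - k = (n - (k + 1)) + 1 by omega, List.range'_succ, List.map_cons, List.prod_cons]

theorem Rel.mul_self (h : Rel s n) {i : ℕ} (hi : i < n) : s i * s i = 1 := by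
  rw [← pow_two]; exact h.invol i hi

theorem Rel.inv_eq (h : Rel s n) {i : ℕ} (hi : i < n) : (s i)⁻¹ = s i :=
  inv_eq_of_mul_eq_one_right (h.mul_self hi)

theorem Rel.braid' (h : Rel s n) {k : ℕ} (hk : k + 1 < n) :
    s (k + 1) * s k * s (k + 1) = s k * s (k + 1) * s k := by
  have h3 := h.braid k hk
  rw [pow_succ, pow_two, mul_eq_one_iff_eq_inv, mul_inv_rev, h.inv_eq (show k < n by omega),
    h.inv_eq hk] at h3
  calc s (k + 1) * s k * s (k + 1)
      = (s k)⁻¹ * (s k * s (k + 1) * (s k * s (k + 1))) := by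
        simp only [mul_assoc]; rw [inv_mul_cancel_left]
    _ = s k * s (k + 1) * s k := by
        rw [h3, h.inv_eq (show k < n by omega)]; simp only [mul_assoc]

theorem Rel.comm_chain (h : Rel s n) {i : ℕ} :
    ∀ d k, n - k = d → k ≤ n → i + 1 < k → Commute (s i) (chain s n k) := by
  intro d
  induction d with
  | zero =>
    intro k hk hkn _
    rw [show k = n by omega, chain_self]
    exact Commute.one_right _
  | succ d ih =>
    intro k hk hkn hik
    rw [chain_succ s (show k < n by omega)]
    exact (h.far i k hik (by omega)).mul_right (ih (k + 1) (by omega) (by omega) (by omega))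

theorem Rel.pull (h : Rel s n) :
    ∀ d k, k + 1 + d < n → s (k + 1 + d) * chain s n k = chain s n k * s (k + d) := by
  intro d
  induction d with
  | zero =>
    intro k hk
    have hc := h.comm_chain (i := k) _ (k + 2) rfl (by omega) (by omega)
    rw [chain_succ s (show k < n by omega), chain_succ s (show k + 1 < n by omega), add_zero, add_zero,
      ← mul_assoc, ← mul_assoc, h.braid' (by omega), mul_assoc, show k + 1 + 1 = k + 2 from rfl, hc.eq]
    simp only [mul_assoc]
  | succ d ih =>
    intro k hk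
    rw [chain_succ s (show k < n by omega), ← mul_assoc,
      ← (h.far k (k + 1 + (d + 1)) (by omega) hk).eq, mul_assoc,
      show k + 1 + (d + 1) = k + 1 + 1 + d by omega, ih (k + 1) (by omega), ← mul_assoc,
      show k + 1 + d = k + (d + 1) by omega]

/-- A group generated by elements with the relations of type `A_n` has order at most `(n+1)!`. -/
theorem card_bound : ∀ (n : ℕ) (s : ℕ → G), Rel s n →
    Finite (Subgroup.closure (s '' Set.Iio n)) ∧
      Nat.card (Subgroup.closure (s '' Set.Iio n)) ≤ (n + 1).factorial := by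
  intro n
  induction n with
  | zero =>
    intro s _
    have hbot : Subgroup.closure (s '' Set.Iio 0) = ⊥ := by simp
    rw [hbot]
    exact ⟨inferInstance, by simp⟩
  | succ N ih =>
    intro s h
    obtain ⟨hfin, hle⟩ := ih s ⟨fun i a => h.invol i (by omega), fun i a => h.braid i (by omega),
      fun i j a b => h.far i j a (by omega)⟩
    set H := Subgroup.closure (s '' Set.Iio N) with hHdef
    have hH : ∀ j, j < N → s j ∈ H := fun j hj => Subgroup.subset_closure ⟨j, hj, rfl⟩
    let U : Set G := {g | ∃ k : Fin (N + 2), ∃ e ∈ H, g = chain s (N + 1) k.1 * e}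
    have hck : ∀ k, k ≤ N + 1 → ∀ e ∈ H, chain s (N + 1) k * e ∈ U := fun k hk e he =>
      ⟨⟨k, by omega⟩, e, he, rfl⟩
    have step : ∀ i, i < N + 1 → ∀ u ∈ U, s i * u ∈ U := by
      intro i hi u hu
      obtain ⟨⟨k, hk⟩, e, he, rfl⟩ := hu
      show s i * (chain s (N + 1) k * e) ∈ U
      rw [← mul_assoc]
      rcases (show i + 1 < k ∨ i + 1 = k ∨ i = k ∨ k < i by omega) with hc | hc | hc | hc
      · rw [(h.comm_chain _ k rfl (by omega) hc).eq, mul_assoc]
        exact hck k (by omega) _ (H.mul_mem (hH i (by omega)) he)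
      · subst hc
        rw [← chain_succ s hi]
        exact hck i (by omega) _ he
      · subst hc
        rw [chain_succ s hi, ← mul_assoc, h.mul_self hi, one_mul]
        exact hck (i + 1) (by omega) _ he
      · obtain ⟨d, rfl⟩ : ∃ d, i = k + 1 + d := ⟨i - (k + 1), by omega⟩
        rw [h.pull d k hi, mul_assoc]
        exact hck k (by omega) _ (H.mul_mem (hH _ (by omega)) he)
    have hsub : (Subgroup.closure (s '' Set.Iio (N + 1)) : Set G) ⊆ U := by
      intro g hg
      have h1 : (1 : G) ∈ U := by
        have := hck (N + 1) le_rfl 1 H.one_mem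
        rwa [chain_self, one_mul] at this
      suffices ∀ u ∈ U, g * u ∈ U ∧ g⁻¹ * u ∈ U by simpa using (this 1 h1).1
      induction hg using Subgroup.closure_induction with
      | mem y hy =>
        obtain ⟨i, hi, rfl⟩ := hy
        intro u hu
        exact ⟨step i hi u hu, by rw [h.inv_eq hi]; exact step i hi u hu⟩
      | one => intro u hu; simpa using hu
      | mul a b _ _ ha hb =>
        intro u hu
        exact ⟨by rw [mul_assoc]; exact (ha _ (hb u hu).1).1,
          by rw [mul_inv_rev, mul_assoc]; exact (hb _ (ha u hu).2).2⟩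
      | inv a _ ha =>
        intro u hu
        exact ⟨(ha u hu).2, by rw [inv_inv]; exact (ha u hu).1⟩
    let F : Fin (N + 2) × H → G := fun p => chain s (N + 1) p.1.1 * p.2
    have hsub' : (Subgroup.closure (s '' Set.Iio (N + 1)) : Set G) ⊆ Set.range F := fun g hg => by
      obtain ⟨k, e, he, rfl⟩ := hsub hg
      exact ⟨(k, ⟨e, he⟩), rfl⟩
    have hfinr : (Set.range F).Finite := Set.finite_range F
    refine ⟨(hfinr.subset hsub').to_subtype, ?_⟩
    refine le_trans (Nat.card_mono hfinr hsub') (le_trans (Finite.card_range_le F) ?_)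
    rw [Nat.card_prod, Nat.card_fin]
    exact le_trans (Nat.mul_le_mul_left _ hle) (Nat.factorial_succ (N + 1)).symm.le

open Equiv Equiv.Perm

/-- The transposition `(i i+1)` of `Fin (n + 1)` (junk outside the range). -/
def adj (n i : ℕ) : Equiv.Perm (Fin (n + 1)) :=
  if h : i < n then Equiv.swap (⟨i, h⟩ : Fin n).castSucc (⟨i, h⟩ : Fin n).succ else 1

theorem adj_rel (n : ℕ) : Rel (adj n) n := by
  refine ⟨fun i hi => ?_, fun i hi => ?_, fun i j hij hj => ?_⟩
  · rw [pow_two, adj, dif_pos hi, swap_mul_self]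
  · rw [adj, adj, dif_pos (show i < n by omega), dif_pos hi]
    have h3 := isThreeCycle_swap_mul_swap_same (a := (⟨i + 1, by omega⟩ : Fin (n + 1)))
      (b := ⟨i, by omega⟩) (c := ⟨i + 2, by omega⟩) (by simp [Fin.ext_iff]) (by simp [Fin.ext_iff])
      (by simp [Fin.ext_iff])
    have hsc := Equiv.swap_comm (⟨i + 1, by omega⟩ : Fin (n + 1)) ⟨i, by omega⟩
    rw [hsc] at h3
    have e := pow_orderOf_eq_one (Equiv.swap (⟨i, by omega⟩ : Fin (n + 1)) ⟨i + 1, by omega⟩ *
      Equiv.swap ⟨i + 1, by omega⟩ ⟨i + 2, by omega⟩)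
    rw [h3.orderOf] at e
    exact e
  · rw [adj, adj, dif_pos (show i < n by omega), dif_pos hj]
    refine Equiv.Perm.Disjoint.commute fun a => ?_
    by_cases h1 : a.1 = i ∨ a.1 = i + 1
    · exact Or.inr (swap_apply_of_ne_of_ne (by simp [Fin.ext_iff]; omega) (by simp [Fin.ext_iff]; omega))
    · exact Or.inl (swap_apply_of_ne_of_ne (by simp [Fin.ext_iff]; omega) (by simp [Fin.ext_iff]; omega))

/-- Elements with the relations of type `A_n` give a homomorphism from `S_(n+1)`. -/
theorem exists_hom (s : ℕ → G) (h : Rel s n) :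
    ∃ f : Equiv.Perm (Fin (n + 1)) →* G, f.range = Subgroup.closure (s '' Set.Iio n) ∧
      ∀ i, i < n → f (adj n i) = s i := by
  set w : ℕ → Equiv.Perm (Fin (n + 1)) × G := fun i => (adj n i, s i) with hw
  have hwrel : Rel w n := by
    obtain ⟨a1, a2, a3⟩ := adj_rel n
    exact ⟨fun i hi => Prod.ext (a1 i hi) (h.invol i hi), fun i hi => Prod.ext (a2 i hi) (h.braid i hi),
      fun i j hij hj => Prod.ext (a3 i j hij hj).eq (h.far i j hij hj).eq⟩
  obtain ⟨hfin, hbound⟩ := card_bound n w hwrel
  set Γ := Subgroup.closure (w '' Set.Iio n) with hΓ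
  let p : Γ →* Equiv.Perm (Fin (n + 1)) := (MonoidHom.fst _ _).comp Γ.subtype
  have hp : Function.Surjective p := by
    intro σ
    have hσ : σ ∈ Submonoid.closure (Set.range fun i : Fin n => Equiv.swap i.castSucc i.succ) := by
      rw [mclosure_swap_castSucc_succ]; trivial
    induction hσ using Submonoid.closure_induction with
    | mem x hx =>
      obtain ⟨k, rfl⟩ := hx
      refine ⟨⟨w k.1, Subgroup.subset_closure ⟨k.1, k.2, rfl⟩⟩, ?_⟩
      show adj n k.1 = _
      rw [adj, dif_pos k.2]
    | one => exact ⟨1, map_one p⟩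
    | mul x y _ _ hx hy =>
      obtain ⟨a, rfl⟩ := hx
      obtain ⟨b, rfl⟩ := hy
      exact ⟨a * b, map_mul p a b⟩
  have hbij : Function.Bijective p := hp.bijective_of_nat_card_le (by
    rw [Nat.card_perm, Nat.card_fin]; exact hbound)
  let e := MulEquiv.ofBijective p hbij
  refine ⟨((MonoidHom.snd _ _).comp Γ.subtype).comp e.symm.toMonoidHom, ?_, ?_⟩
  · rw [MonoidHom.range_comp, MonoidHom.range_eq_top.2 e.symm.surjective, ← MonoidHom.range_eq_map,
      MonoidHom.range_comp, Subgroup.range_subtype, hΓ, MonoidHom.map_closure, Set.image_image]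
    rfl
  · intro i hi
    have he : e.symm (adj n i) = ⟨w i, Subgroup.subset_closure ⟨i, hi, rfl⟩⟩ := by
      rw [MulEquiv.symm_apply_eq]; rfl
    show (e.symm (adj n i) : Equiv.Perm (Fin (n + 1)) × G).2 = s i
    rw [he]

end CfsgLib.CoxeterA
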