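import Mathlib.GroupTheory.SpecificGroups.Alternating
import Mathlib.GroupTheory.Perm.Cycle.Type
import Mathlib.GroupTheory.OrderOfElement

/-! Element orders of small alternating groups. -/

set_option autoImplicit false

namespace CfsgLib.SpecBlow

open Equiv

/-- The possible (lcm, parity of sum + length) of multisets of parts `≥ 2` with sum `≤ s`. -/
def cycleData : ℕ → ℕ → List (ℕ × ℕ)
  | 0, _ => [(1, 0)]
  | f + 1, s => (1, 0) :: (List.range (s + 1)).flatMap fun a =>
      if 2 ≤ a then (cycleData f (s - a)).map fun q => (Nat.lcm a q.1, (a + 1 + q.2) % 2) else []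

theorem mem_cycleData (m : Multiset ℕ) :
    ∀ f s : ℕ, (∀ a ∈ m, 2 ≤ a) → m.sum ≤ s → Multiset.card m ≤ f →
      (m.lcm, (m.sum + Multiset.card m) % 2) ∈ cycleData f s := by
  induction m using Multiset.induction with
  | empty => intro f s _ _ _; cases f <;> simp [cycleData]
  | cons a m ih =>
    intro f s h2 hsum hcard
    rw [Multiset.card_cons] at hcard
    rw [Multiset.sum_cons] at hsum
    obtain ⟨f, rfl⟩ : ∃ g, f = g + 1 := ⟨f - 1, by omega⟩
    have ha := h2 a (Multiset.mem_cons_self _ _)
    have hm := ih f (s - a) (fun b hb => h2 b (Multiset.mem_cons_of_mem hb)) (by omega) (by omega)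
    rw [cycleData]
    refine List.mem_cons_of_mem _ (List.mem_flatMap.2 ⟨a, List.mem_range.2 (by omega), ?_⟩)
    rw [if_pos ha]
    refine List.mem_map.2 ⟨_, hm, ?_⟩
    rw [Multiset.lcm_cons, Multiset.sum_cons, Multiset.card_cons]
    refine Prod.ext rfl ?_
    show (a + 1 + (m.sum + Multiset.card m) % 2) % 2 = (a + m.sum + (Multiset.card m + 1)) % 2
    omega

/-- An upper bound for the element orders of an alternating group. -/
theorem orderOf_mem_of_cycleData {n : ℕ} (S : Finset ℕ)
    (hS : ∀ q ∈ cycleData n n, q.2 = 0 → q.1 ∈ S) (g : alternatingGroup (Fin n)) :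
    orderOf g ∈ S := by
  rw [← Subgroup.orderOf_coe g, ← Perm.lcm_cycleType]
  set σ : Perm (Fin n) := (g : Perm (Fin n))
  have hsum : σ.cycleType.sum ≤ n := by
    rw [Perm.sum_cycleType]
    exact le_of_le_of_eq (Finset.card_le_univ _) (Fintype.card_fin n)
  have hcard : Multiset.card σ.cycleType ≤ n := by
    refine le_trans ?_ hsum
    have := Multiset.card_nsmul_le_sum (a := 1) (s := σ.cycleType)
      fun a ha => le_trans (by omega) (Perm.two_le_of_mem_cycleType ha)
    simpa using this
  refine hS _ (mem_cycleData σ.cycleType n n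
    (fun a ha => Perm.two_le_of_mem_cycleType ha) hsum hcard) ?_
  have hsign : Perm.sign σ = 1 := Perm.mem_alternatingGroup.1 g.2
  rw [Perm.sign_of_cycleType] at hsign
  show (σ.cycleType.sum + Multiset.card σ.cycleType) % 2 = 0
  rcases Nat.even_or_odd (σ.cycleType.sum + Multiset.card σ.cycleType) with h | h
  · exact Nat.even_iff.1 h
  · rw [Odd.neg_one_pow h] at hsign
    exact absurd hsign (by decide)

/-- The set of element orders, from a cycle-data bound and witnesses. -/
theorem range_orderOf_alternating {n : ℕ} (S : Finset ℕ)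
    (hS : ∀ q ∈ cycleData n n, q.2 = 0 → q.1 ∈ S)
    (hwit : ∀ k ∈ S, ∃ g : alternatingGroup (Fin n), orderOf g = k) :
    Set.range (orderOf : alternatingGroup (Fin n) → ℕ) = ↑S := by
  ext k
  constructor
  · rintro ⟨g, rfl⟩
    exact orderOf_mem_of_cycleData S hS g
  · exact fun hk => hwit k hk

/-- An order witness checked on permutations. -/
theorem exists_alternating_orderOf {n : ℕ} (σ : Perm (Fin n)) (k : ℕ) (hσ : Perm.sign σ = 1)
    (hk : 0 < k) (h1 : σ ^ k = 1) (h2 : ∀ j < k, 0 < j → σ ^ j ≠ 1) :
    ∃ g : alternatingGroup (Fin n), orderOf g = k :=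
  ⟨⟨σ, Perm.mem_alternatingGroup.2 hσ⟩, by
    rw [← Subgroup.orderOf_coe]
    exact (orderOf_eq_iff hk).2 ⟨h1, h2⟩⟩

theorem range_orderOf_alternating_six :
    Set.range (orderOf : alternatingGroup (Fin 6) → ℕ) = ↑({1, 2, 3, 4, 5} : Finset ℕ) := by
  refine range_orderOf_alternating _ (by decide +kernel) fun k hk => ?_
  simp only [Finset.mem_insert, Finset.mem_singleton] at hk
  rcases hk with rfl | rfl | rfl | rfl | rfl
  · exact ⟨1, orderOf_one⟩
  · exact exists_alternating_orderOf
      (List.formPerm [(0 : Fin 6), 1] * List.formPerm [(2 : Fin 6), 3]) _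
      (by decide +kernel) (by decide) (by decide +kernel) (by decide +kernel)
  · exact exists_alternating_orderOf (List.formPerm [(0 : Fin 6), 1, 2]) _
      (by decide +kernel) (by decide) (by decide +kernel) (by decide +kernel)
  · exact exists_alternating_orderOf
      (List.formPerm [(0 : Fin 6), 1, 2, 3] * List.formPerm [(4 : Fin 6), 5]) _
      (by decide +kernel) (by decide) (by decide +kernel) (by decide +kernel)
  · exact exists_alternating_orderOf (List.formPerm [(0 : Fin 6), 1, 2, 3, 4]) _
      (by decide +kernel) (by decide) (by decide +kernel) (by decide +kernel)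

theorem range_orderOf_alternating_five :
    Set.range (orderOf : alternatingGroup (Fin 5) → ℕ) = ↑({1, 2, 3, 5} : Finset ℕ) := by
  refine range_orderOf_alternating _ (by decide +kernel) fun k hk => ?_
  simp only [Finset.mem_insert, Finset.mem_singleton] at hk
  rcases hk with rfl | rfl | rfl | rfl
  · exact ⟨1, orderOf_one⟩
  · exact exists_alternating_orderOf
      (List.formPerm [(0 : Fin 5), 1] * List.formPerm [(2 : Fin 5), 3]) _
      (by decide +kernel) (by decide) (by decide +kernel) (by decide +kernel)
  · exact exists_alternating_orderOf (List.formPerm [(0 : Fin 5), 1, 2]) _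
      (by decide +kernel) (by decide) (by decide +kernel) (by decide +kernel)
  · exact exists_alternating_orderOf (List.formPerm [(0 : Fin 5), 1, 2, 3, 4]) _
      (by decide +kernel) (by decide) (by decide +kernel) (by decide +kernel)

theorem range_orderOf_alternating_ten :
    Set.range (orderOf : alternatingGroup (Fin 10) → ℕ) =
      ↑({1, 2, 3, 4, 5, 6, 7, 8, 9, 10, 12, 15, 21} : Finset ℕ) := by
  refine range_orderOf_alternating _ (by decide +kernel) fun k hk => ?_
  simp only [Finset.mem_insert, Finset.mem_singleton] at hk
  rcases hk with rfl | rfl | rfl | rfl | rfl | rfl | rfl | rfl | rfl | rfl | rfl | rfl | rfl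
  · exact ⟨1, orderOf_one⟩
  · exact exists_alternating_orderOf
      (List.formPerm [(0 : Fin 10), 1] * List.formPerm [(2 : Fin 10), 3]) _
      (by decide +kernel) (by decide) (by decide +kernel) (by decide +kernel)
  · exact exists_alternating_orderOf (List.formPerm [(0 : Fin 10), 1, 2]) _
      (by decide +kernel) (by decide) (by decide +kernel) (by decide +kernel)
  · exact exists_alternating_orderOf
      (List.formPerm [(0 : Fin 10), 1, 2, 3] * List.formPerm [(4 : Fin 10), 5]) _
      (by decide +kernel) (by decide) (by decide +kernel) (by decide +kernel)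
  · exact exists_alternating_orderOf (List.formPerm [(0 : Fin 10), 1, 2, 3, 4]) _
      (by decide +kernel) (by decide) (by decide +kernel) (by decide +kernel)
  · exact exists_alternating_orderOf
      (List.formPerm [(0 : Fin 10), 1, 2] * List.formPerm [(3 : Fin 10), 4] *
        List.formPerm [(5 : Fin 10), 6]) _
      (by decide +kernel) (by decide) (by decide +kernel) (by decide +kernel)
  · exact exists_alternating_orderOf (List.formPerm [(0 : Fin 10), 1, 2, 3, 4, 5, 6]) _
      (by decide +kernel) (by decide) (by decide +kernel) (by decide +kernel)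
  · exact exists_alternating_orderOf
      (List.formPerm [(0 : Fin 10), 1, 2, 3, 4, 5, 6, 7] * List.formPerm [(8 : Fin 10), 9]) _
      (by decide +kernel) (by decide) (by decide +kernel) (by decide +kernel)
  · exact exists_alternating_orderOf (List.formPerm [(0 : Fin 10), 1, 2, 3, 4, 5, 6, 7, 8]) _
      (by decide +kernel) (by decide) (by decide +kernel) (by decide +kernel)
  · exact exists_alternating_orderOf
      (List.formPerm [(0 : Fin 10), 1, 2, 3, 4] * List.formPerm [(5 : Fin 10), 6] *
        List.formPerm [(7 : Fin 10), 8]) _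
      (by decide +kernel) (by decide) (by decide +kernel) (by decide +kernel)
  · exact exists_alternating_orderOf
      (List.formPerm [(0 : Fin 10), 1, 2, 3] * List.formPerm [(4 : Fin 10), 5, 6] *
        List.formPerm [(7 : Fin 10), 8]) _
      (by decide +kernel) (by decide) (by decide +kernel) (by decide +kernel)
  · exact exists_alternating_orderOf
      (List.formPerm [(0 : Fin 10), 1, 2, 3, 4] * List.formPerm [(5 : Fin 10), 6, 7]) _
      (by decide +kernel) (by decide) (by decide +kernel) (by decide +kernel)
  · exact exists_alternating_orderOf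
      (List.formPerm [(0 : Fin 10), 1, 2, 3, 4, 5, 6] * List.formPerm [(7 : Fin 10), 8, 9]) _
      (by decide +kernel) (by decide) (by decide +kernel) (by decide +kernel)

end CfsgLib.SpecBlow
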