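import Cfsg.Agent.PrimeGraph.Basic

/-! Subdirect powers of a group over a normal subgroup of prime exponent have the same element
orders. -/

set_option autoImplicit false

namespace CfsgLib.SpecBlow

variable {G : Type*} [Group G] [Finite G]

/-- The order of an element is `d` or `p * d`, where `d` is the order modulo `V`. -/
theorem orderOf_eq_or (V : Subgroup G) [V.Normal] {p : ℕ} (hp : p.Prime)
    (hexp : ∀ x : V, x ^ p = 1) (u : G) :
    orderOf u = orderOf (u : G ⧸ V) ∨ orderOf u = orderOf (u : G ⧸ V) * p := by
  set d := orderOf (u : G ⧸ V) with hd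
  have hdu : d ∣ orderOf u := orderOf_map_dvd (QuotientGroup.mk' V) u
  have hmem : u ^ d ∈ V := by
    rw [← QuotientGroup.eq_one_iff, QuotientGroup.mk_pow]
    exact pow_orderOf_eq_one _
  have hdvd : orderOf u ∣ d * p := by
    apply orderOf_dvd_of_pow_eq_one
    rw [pow_mul]
    exact congrArg Subtype.val (hexp ⟨_, hmem⟩)
  obtain ⟨c, hc⟩ := hdu
  have hd0 : 0 < d := orderOf_pos _
  have hcp : c ∣ p := by
    rw [hc] at hdvd
    exact Nat.dvd_of_mul_dvd_mul_left hd0 hdvd
  rcases (Nat.dvd_prime hp).1 hcp with h | h
  · exact Or.inl (by rw [hc, h, mul_one])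
  · exact Or.inr (by rw [hc, h])

/-- Element orders of a subdirect power whose coordinates agree modulo `V`. -/
theorem range_orderOf_subdirect {H ι : Type*} [Group H] [Finite H] [Nonempty ι] (V : Subgroup G)
    [V.Normal] {p : ℕ} (hp : p.Prime) (hexp : ∀ x : V, x ^ p = 1) (f : H →* (ι → G))
    (hf : Function.Injective f) (hcong : ∀ x i j, (f x i : G ⧸ V) = (f x j : G ⧸ V))
    (hdiag : ∀ g : G, ∃ x : H, ∀ i, f x i = g) :
    Set.range (orderOf : H → ℕ) = Set.range (orderOf : G → ℕ) := by
  classical
  ext n
  constructor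
  · rintro ⟨x, rfl⟩
    set u : ι → G := f x
    have hord : orderOf x = orderOf u := (orderOf_injective f hf x).symm
    have hcomp : ∀ i, orderOf (u i) ∣ orderOf u := fun i =>
      orderOf_map_dvd (Pi.evalMonoidHom (fun _ : ι => G) i) u
    set i₀ : ι := Classical.arbitrary ι
    set d := orderOf (u i₀ : G ⧸ V) with hd
    have hor : ∀ i, orderOf (u i) = d ∨ orderOf (u i) = d * p := fun i => by
      have := orderOf_eq_or V hp hexp (u i)
      rwa [hcong x i i₀] at this
    have hkey : ∀ m, (∀ i, orderOf (u i) ∣ m) → orderOf u ∣ m := fun m hm =>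
      orderOf_dvd_of_pow_eq_one (funext fun i => by
        rw [Pi.pow_apply, Pi.one_apply, ← orderOf_dvd_iff_pow_eq_one]; exact hm i)
    by_cases hall : ∀ i, orderOf (u i) = d
    · refine ⟨u i₀, ?_⟩
      rw [hord]
      exact Nat.dvd_antisymm (hcomp i₀) (hkey _ fun i => by rw [hall i, hall i₀])
    · push Not at hall
      obtain ⟨i₁, hi₁⟩ := hall
      have h1 := (hor i₁).resolve_left hi₁
      refine ⟨u i₁, ?_⟩
      rw [hord]
      refine Nat.dvd_antisymm (hcomp i₁) (hkey _ fun i => ?_)
      rcases hor i with h | h <;> rw [h, h1]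
      exact dvd_mul_right _ _
  · rintro ⟨g, rfl⟩
    obtain ⟨x, hx⟩ := hdiag g
    refine ⟨x, ?_⟩
    rw [← orderOf_injective f hf x, show f x = Function.const ι g from funext hx]
    exact orderOf_injective
      ({ toFun := Function.const ι, map_one' := rfl, map_mul' := fun _ _ => rfl } : G →* ι → G)
      Function.const_injective g

/-- Tuples agreeing modulo `V`. -/
def congTuples (V : Subgroup G) [V.Normal] (k : ℕ) : Subgroup (Fin (k + 1) → G) where
  carrier := {x | ∀ i, (x i : G ⧸ V) = (x 0 : G ⧸ V)}
  one_mem' := fun _ => rfl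
  mul_mem' := fun {a b} ha hb i => by
    simp only [Pi.mul_apply, QuotientGroup.mk_mul, ha i, hb i]
  inv_mem' := fun {a} ha i => by simp only [Pi.inv_apply, QuotientGroup.mk_inv, ha i]

/-- Finite groups of unbounded order with the element orders of `G`. -/
theorem exists_large_isospectral (V : Subgroup G) [V.Normal] (hV : V ≠ ⊥) {p : ℕ} (hp : p.Prime)
    (hexp : ∀ x : V, x ^ p = 1) (N : ℕ) :
    ∃ (H : Type) (_ : Group H) (_ : Fintype H), N < Fintype.card H ∧
      Set.range (orderOf : H → ℕ) = Set.range (orderOf : G → ℕ) := by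
  obtain ⟨H, _, _, ⟨e⟩⟩ := CfsgLib.PrimeGraph.exists_type0_copy (congTuples V N)
  refine ⟨H, inferInstance, inferInstance, ?_, ?_⟩
  · rw [← Nat.card_eq_fintype_card, Nat.card_congr e.toEquiv]
    obtain ⟨v, hv, hv1⟩ : ∃ v ∈ V, v ≠ 1 := by
      by_contra h
      push Not at h
      exact hV ((Subgroup.eq_bot_iff_forall _).2 h)
    classical
    let F : Fin (N + 1) → congTuples V N := fun i => ⟨Pi.mulSingle i v, fun j => by
      have hz : ((v : G) : G ⧸ V) = 1 := (QuotientGroup.eq_one_iff v).2 hv
      have key : ∀ j, ((Pi.mulSingle i v : Fin (N + 1) → G) j : G ⧸ V) = 1 := by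
        intro j
        by_cases h : j = i
        · subst h; simpa using hz
        · simp [Pi.mulSingle_eq_of_ne h]
      rw [key j, key 0]⟩
    have hF : Function.Injective F := by
      intro i j h
      by_contra hne
      have := congrFun (congrArg Subtype.val h) i
      simp [F, Pi.mulSingle_eq_of_ne hne, hv1] at this
    have := Nat.card_le_card_of_injective F hF
    rw [Nat.card_fin] at this
    omega
  · refine range_orderOf_subdirect V hp hexp
      ((congTuples V N).subtype.comp e.toMonoidHom)
      ((congTuples V N).subtype_injective.comp e.injective)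
      (fun x i j => ((e x).2 i).trans ((e x).2 j).symm) fun g => ?_
    refine ⟨e.symm ⟨fun _ => g, fun _ => rfl⟩, fun i => ?_⟩
    simp

/-- A split extension of a normal subgroup of prime exponent by the group itself. -/
theorem range_orderOf_semidirect (V : Subgroup G) [V.Normal] {p : ℕ} (hp : p.Prime)
    (hexp : ∀ x : V, x ^ p = 1) :
    Set.range (orderOf : V ⋊[MulAut.conjNormal] G → ℕ) = Set.range (orderOf : G → ℕ) := by
  have : Finite (V ⋊[MulAut.conjNormal] G) := Finite.of_equiv _ SemidirectProduct.equivProd.symm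
  let f : V ⋊[MulAut.conjNormal] G →* (Bool → G) :=
    { toFun := fun x b => cond b ((x.left : G) * x.right) x.right
      map_one' := by funext b; cases b <;> simp
      map_mul' := fun x y => by
        funext b
        cases b
        · simp
        · simp [MulAut.conjNormal_apply, mul_assoc] }
  refine range_orderOf_subdirect V hp hexp f ?_ ?_ fun g => ⟨SemidirectProduct.inr g, fun b => ?_⟩
  · intro x y h
    have h1 : (x.left : G) * x.right = y.left * y.right := congrFun h true
    have h2 : x.right = y.right := congrFun h false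
    rw [h2] at h1
    exact SemidirectProduct.ext (Subtype.ext (mul_right_cancel h1)) h2
  · intro x i j
    have key : ∀ b, (f x b : G ⧸ V) = (x.right : G ⧸ V) := by
      intro b
      cases b
      · rfl
      · show (((x.left : G) * x.right : G) : G ⧸ V) = _
        rw [QuotientGroup.mk_mul, (QuotientGroup.eq_one_iff _).2 x.left.2, one_mul]
    rw [key, key]
  · cases b <;> simp [f]

end CfsgLib.SpecBlow
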