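import Mathlib
import Cfsg.Agent.Solvable.Hall

/-! Groups with the order and the element orders of an alternating group. -/

set_option autoImplicit false
set_option linter.style.haveILetI false

namespace CfsgLib.AltOrderSpec

open Equiv Equiv.Perm

theorem exists_mem_dvd_of_dvd_lcm {p : ℕ} (hp : p.Prime) :
    ∀ m : Multiset ℕ, p ∣ m.lcm → ∃ a ∈ m, p ∣ a := by
  intro m
  induction m using Multiset.induction with
  | empty => intro h; simp at h; exact absurd h hp.one_lt.ne'
  | cons a m ih =>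
    intro h
    rw [Multiset.lcm_cons] at h
    rcases (Nat.Prime.dvd_mul hp).1 (h.trans (Nat.lcm_dvd_mul a m.lcm)) with h | h
    · exact ⟨a, Multiset.mem_cons_self _ _, h⟩
    · obtain ⟨b, hb, hpb⟩ := ih h
      exact ⟨b, Multiset.mem_cons_of_mem hb, hpb⟩

/-- No permutation of `n` points has order `p * r` when `p + r > n`. -/
theorem perm_orderOf_ne {n p r : ℕ} (hp : p.Prime) (hr : r.Prime) (hne : p ≠ r) (hn : n < p + r)
    (σ : Perm (Fin n)) : orderOf σ ≠ p * r := by
  intro h
  have hsum : σ.cycleType.sum ≤ n := by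
    rw [sum_cycleType]
    exact (Finset.card_le_univ _).trans (Fintype.card_fin n).le
  rw [← lcm_cycleType] at h
  obtain ⟨a, ha, hpa⟩ := exists_mem_dvd_of_dvd_lcm hp σ.cycleType (h ▸ dvd_mul_right p r)
  obtain ⟨b, hb, hrb⟩ := exists_mem_dvd_of_dvd_lcm hr σ.cycleType (h ▸ dvd_mul_left r p)
  have ha2 : 2 ≤ a := two_le_of_mem_cycleType ha
  have hb2 : 2 ≤ b := two_le_of_mem_cycleType hb
  obtain ⟨m, hm⟩ := Multiset.exists_cons_of_mem ha
  rw [hm, Multiset.sum_cons] at hsum
  rw [hm, Multiset.mem_cons] at hb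
  have := hp.two_le
  have := hr.two_le
  rcases hb with rfl | hb
  · have h1 : p * r ∣ b := ((Nat.coprime_primes hp hr).2 hne).mul_dvd_of_dvd_of_dvd hpa hrb
    have := Nat.le_of_dvd (by omega) h1
    have hpr : p + r ≤ p * r := by
      obtain ⟨p', rfl⟩ : ∃ t, p = t + 2 := ⟨p - 2, by omega⟩
      obtain ⟨r', rfl⟩ : ∃ t, r = t + 2 := ⟨r - 2, by omega⟩
      nlinarith
    omega
  · have := Multiset.le_sum_of_mem hb
    have := Nat.le_of_dvd (by omega) hpa
    have := Nat.le_of_dvd (by omega) hrb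
    omega

/-- A group with the spectrum of `A_n` has no element of order `p * r` when `p + r > n`. -/
theorem orderOf_ne_of_range {G : Type*} [Group G] {n p r : ℕ} (hp : p.Prime) (hr : r.Prime)
    (hne : p ≠ r) (hn : n < p + r)
    (hspec : Set.range (orderOf : G → ℕ) = Set.range (orderOf : ↥(alternatingGroup (Fin n)) → ℕ))
    (g : G) : orderOf g ≠ p * r := by
  intro h
  obtain ⟨σ, hσ⟩ : p * r ∈ Set.range (orderOf : ↥(alternatingGroup (Fin n)) → ℕ) := hspec ▸ ⟨g, h⟩
  exact perm_orderOf_ne hp hr hne hn σ.1 (by rw [Subgroup.orderOf_coe]; exact hσ)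

/-- An element of order `r` normalising a subgroup of order `p` gives an element of order `p * r`. -/
theorem exists_orderOf_mul {G : Type*} [Group G] [Finite G] {p r : ℕ} (hp : p.Prime) (hr : r.Prime)
    (hne : p ≠ r) (hdvd : ¬ r ∣ p - 1) (P : Subgroup G) (hP : Nat.card P = p) (x : G)
    (hxN : x ∈ Subgroup.normalizer (P : Set G)) (hx : orderOf x = r) :
    ∃ g : G, orderOf g = p * r := by
  haveI : Fact p.Prime := ⟨hp⟩
  haveI : IsCyclic P := isCyclic_of_prime_card hP
  obtain ⟨a, ha⟩ := IsCyclic.exists_ofOrder_eq_natCard (α := P)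
  rw [hP] at ha
  let f : Subgroup.normalizer (P : Set G) →* MulAut P := Subgroup.normalizerMonoidHom P
  have hcard : Nat.card (MulAut P) = p - 1 := by
    rw [IsCyclic.card_mulAut, hP, Nat.totient_prime hp]
  have h1 : f ⟨x, hxN⟩ = 1 := by
    rw [← orderOf_eq_one_iff]
    refine ((Nat.dvd_prime hr).1 ?_).resolve_right fun h => hdvd ?_
    · exact (orderOf_map_dvd f _).trans (by rw [Subgroup.orderOf_mk, hx])
    · rw [← h, ← hcard]
      exact orderOf_dvd_natCard _
  have hcomm : Commute (a : G) x := by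
    have := congrArg Subtype.val (DFunLike.congr_fun h1 a)
    simp only [f, Subgroup.normalizerMonoidHom_apply_apply_coe, MulAut.one_apply] at this
    exact (mul_inv_eq_iff_eq_mul.1 this).symm
  refine ⟨(a : G) * x, ?_⟩
  rw [hcomm.orderOf_mul_eq_mul_orderOf_of_coprime (by
    rw [Subgroup.orderOf_coe, ha, hx]; exact (Nat.coprime_primes hp hr).2 hne),
    Subgroup.orderOf_coe, ha, hx]

/-- `|A_n|` is half of `n!`. -/
theorem two_mul_card (n : ℕ) (hn : 2 ≤ n) :
    2 * Nat.card ↥(alternatingGroup (Fin n)) = n.factorial := by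
  haveI : Nontrivial (Fin n) := Fin.nontrivial_iff_two_le.2 hn
  rw [nat_card_alternatingGroup, Nat.card_fin, Nat.mul_div_cancel' (Nat.dvd_factorial two_pos hn)]

/-- A prime in `(n/2, n]` divides `|A_n|` exactly once. -/
theorem dvd_card_iff {n p : ℕ} (hn : 5 ≤ n) (hp : p.Prime) (hpn : p ≤ n) (h2p : n < 2 * p) :
    p ∣ Nat.card ↥(alternatingGroup (Fin n)) ∧ ¬ p ^ 2 ∣ Nat.card ↥(alternatingGroup (Fin n)) := by
  have hp3 : 3 ≤ p := by omega
  have h := two_mul_card n (by omega)
  have hp2 : p.Coprime 2 := (Nat.coprime_primes hp Nat.prime_two).2 (by omega)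
  constructor
  · exact hp2.dvd_of_dvd_mul_left (h ▸ Nat.dvd_factorial hp.pos hpn)
  · intro hdvd
    have h2 : p ^ 2 ∣ n.factorial := h ▸ dvd_mul_of_dvd_right hdvd 2
    have hlog : Nat.log p n < 2 := by
      refine Nat.log_lt_of_lt_pow (by omega) ?_
      nlinarith
    rw [hp.pow_dvd_factorial_iff hlog] at h2
    simp [Finset.sum_Ico_succ_top] at h2
    have : n / p < 2 := Nat.div_lt_of_lt_mul (by omega)
    omega

universe u

/-- In a solvable group of order divisible exactly by `p ^ b * r` there is an element of order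
`p * r` as soon as the Sylow `r`-subgroup must be normal and centralized. -/
theorem solvable_exists_orderOf {G : Type u} [Group G] [Finite G] [Group.IsSolvable G] {p r b m : ℕ}
    (hp : p.Prime) (hr : r.Prime) (hne : p ≠ r) (hcard : Nat.card G = p ^ b * r * m)
    (hb : 1 ≤ b) (hcop : (p ^ b * r).Coprime m) (hmod : ∀ i, 1 ≤ i → i ≤ b → p ^ i % r ≠ 1)
    (hdvd : ¬ p ∣ r - 1) : ∃ g : G, orderOf g = p * r := by
  obtain ⟨H, hH, -⟩ := CfsgLib.Hall.hall hcard hcop
  haveI : Fact r.Prime := ⟨hr⟩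
  haveI : Fact p.Prime := ⟨hp⟩
  obtain ⟨R⟩ : Nonempty (Sylow r H) := inferInstance
  have hR : Nat.card (R : Subgroup H) = r := by
    rw [R.card_eq_multiplicity, hH, Nat.factorization_mul (pow_ne_zero _ hp.ne_zero) hr.ne_zero,
      hp.factorization_pow, hr.factorization]
    simp [hne]
  have hnr : Nat.card (Sylow r H) = 1 := by
    have h1 : Nat.card (Sylow r H) ∣ p ^ b := by
      have h := R.card_dvd_index
      have hidx : (R : Subgroup H).index = p ^ b := by
        have := (R : Subgroup H).card_mul_index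
        rw [hR, hH, mul_comm (p ^ b) r] at this
        exact Nat.eq_of_mul_eq_mul_left hr.pos this
      rwa [hidx] at h
    obtain ⟨i, hi, he⟩ := (Nat.dvd_prime_pow hp).1 h1
    rcases Nat.eq_zero_or_pos i with rfl | hi0
    · simpa using he
    · have := card_sylow_modEq_one r H
      rw [he, Nat.ModEq, Nat.one_mod_eq_one.2 hr.one_lt.ne'] at this
      exact absurd this (hmod i hi0 hi)
  have hN : (R : Subgroup H).Normal := by
    haveI : Subsingleton (Sylow r H) := (Nat.card_eq_one_iff_unique.1 hnr).1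
    exact Sylow.normal_of_subsingleton R
  obtain ⟨x, hx⟩ := exists_prime_orderOf_dvd_card' p (G := H)
    (hH ▸ dvd_mul_of_dvd_left (dvd_pow_self p (by omega)) r)
  obtain ⟨g, hg⟩ := exists_orderOf_mul hr hp hne.symm hdvd (R : Subgroup H) hR x
    (by rw [Subgroup.normalizer_eq_top]; exact Subgroup.mem_top x) hx
  exact ⟨g, by rw [Subgroup.orderOf_coe, hg, mul_comm]⟩

end CfsgLib.AltOrderSpec
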