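import Mathlib

/-! Recognizing transpositions by centralizer orders, and supports of transpositions. -/

set_option autoImplicit false
set_option linter.style.haveILetI false

namespace CfsgLib.SwapPerms

open Equiv Equiv.Perm

theorem arith_diag : ∀ k : ℕ, 4 ≤ k → 2 ^ k * k.factorial < 2 * (2 * k - 2).factorial := by
  intro k hk
  induction k, hk using Nat.le_induction with
  | base => decide
  | succ k hk ih =>
    obtain ⟨j, rfl⟩ : ∃ j, k = j + 1 := ⟨k - 1, by omega⟩
    have e1 : 2 * (j + 1) - 2 = 2 * j := by omega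
    have e2 : 2 * (j + 1 + 1) - 2 = 2 * j + 1 + 1 := by omega
    rw [e1] at ih
    rw [e2, Nat.factorial_succ (2 * j + 1), Nat.factorial_succ (2 * j), pow_succ,
      Nat.factorial_succ (j + 1)]
    have h2 : 2 * (j + 1 + 1) ≤ (2 * j + 1 + 1) * (2 * j + 1) := by nlinarith
    calc 2 ^ (j + 1) * 2 * ((j + 1 + 1) * (j + 1).factorial)
        = 2 * (j + 1 + 1) * (2 ^ (j + 1) * (j + 1).factorial) := by ring
      _ < 2 * (j + 1 + 1) * (2 * (2 * j).factorial) := Nat.mul_lt_mul_of_pos_left ih (by omega)
      _ ≤ (2 * j + 1 + 1) * (2 * j + 1) * (2 * (2 * j).factorial) := Nat.mul_le_mul_right _ h2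
      _ = 2 * ((2 * j + 1 + 1) * ((2 * j + 1) * (2 * j).factorial)) := by ring

theorem arith {n k : ℕ} (hk : 2 ≤ k) (hkn : 2 * k ≤ n) (hn : 7 ≤ n) :
    2 ^ k * k.factorial * (n - 2 * k).factorial < 2 * (n - 2).factorial := by
  induction n using Nat.strong_induction_on with
  | _ n ih =>
    by_cases hb : n = 7
    · subst hb
      obtain rfl | rfl : k = 2 ∨ k = 3 := by omega
      all_goals decide
    by_cases hd : n = 2 * k
    · subst hd
      rw [Nat.sub_self, Nat.factorial_zero, mul_one]
      exact arith_diag k (by omega)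
    obtain ⟨r, rfl⟩ : ∃ r, n = r + 1 := ⟨n - 1, by omega⟩
    have h := ih r (by omega) (by omega) (by omega)
    rw [show r + 1 - 2 * k = (r - 2 * k) + 1 by omega, show r + 1 - 2 = (r - 2) + 1 by omega,
      Nat.factorial_succ, Nat.factorial_succ]
    calc 2 ^ k * k.factorial * ((r - 2 * k + 1) * (r - 2 * k).factorial)
        = (r - 2 * k + 1) * (2 ^ k * k.factorial * (r - 2 * k).factorial) := by ring
      _ < (r - 2 * k + 1) * (2 * (r - 2).factorial) := Nat.mul_lt_mul_of_pos_left h (by omega)
      _ ≤ (r - 2 + 1) * (2 * (r - 2).factorial) := Nat.mul_le_mul_right _ (by omega)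
      _ = 2 * ((r - 2 + 1) * (r - 2).factorial) := by ring

variable {α : Type*} [Fintype α] [DecidableEq α]

theorem card_centralizer_swap {σ : Perm α} (h : σ.IsSwap) :
    Nat.card (Subgroup.centralizer ({σ} : Set (Perm α))) = 2 * (Fintype.card α - 2).factorial := by
  have hc : σ.cycleType = {2} := isSwap_iff_cycleType.1 h
  rw [nat_card_centralizer σ, hc]
  simp
  ring

theorem isSwap_of_card_centralizer {σ : Perm α} (hn : 7 ≤ Fintype.card α) (h2 : σ * σ = 1)
    (hc : Nat.card (Subgroup.centralizer ({σ} : Set (Perm α))) = 2 * (Fintype.card α - 2).factorial) :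
    σ.IsSwap := by
  obtain ⟨k, hk⟩ : ∃ k, σ.cycleType = Multiset.replicate k 2 := by
    refine ⟨Multiset.card σ.cycleType, Multiset.eq_replicate_card.2 fun i hi => ?_⟩
    have h1 := dvd_of_mem_cycleType hi
    have h2' : orderOf σ ∣ 2 := orderOf_dvd_of_pow_eq_one (by rw [pow_two, h2])
    exact ((Nat.dvd_prime Nat.prime_two).1 (h1.trans h2')).resolve_left
      (by have := two_le_of_mem_cycleType hi; omega)
  have hsum : 2 * k ≤ Fintype.card α := by
    have := σ.sum_cycleType
    rw [hk, Multiset.sum_replicate, smul_eq_mul] at this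
    have := σ.support.card_le_univ
    omega
  rw [nat_card_centralizer σ, hk, Multiset.sum_replicate, Multiset.prod_replicate, smul_eq_mul] at hc
  rcases Nat.lt_trichotomy k 1 with h1 | h1 | h1
  · exfalso
    obtain rfl : k = 0 := by omega
    simp at hc
    obtain ⟨r, hr⟩ : ∃ r, Fintype.card α = r + 2 := ⟨Fintype.card α - 2, by omega⟩
    rw [hr, Nat.factorial_succ, Nat.factorial_succ, Nat.add_sub_cancel] at hc
    have h42 : 2 < (r + 1 + 1) * (r + 1) := by nlinarith
    have := Nat.mul_lt_mul_of_pos_right h42 (Nat.factorial_pos r)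
    rw [mul_assoc] at this
    omega
  · subst h1
    rw [isSwap_iff_cycleType, hk]; rfl
  · exfalso
    have hlt := arith h1 hsum hn
    rw [Multiset.toFinset_replicate, if_neg (by omega), Finset.prod_singleton,
      Multiset.count_replicate_self, mul_comm k 2] at hc
    rw [show (Fintype.card α - 2 * k).factorial * 2 ^ k * k.factorial =
      2 ^ k * k.factorial * (Fintype.card α - 2 * k).factorial by ring] at hc
    omega

theorem support_card {s : Perm α} (h : s.IsSwap) : s.support.card = 2 := card_support_eq_two.2 h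

theorem eq_of_support_eq {s t : Perm α} (hs : s.IsSwap) (ht : t.IsSwap) (h : s.support = t.support) :
    s = t := by
  obtain ⟨a, b, hab, rfl⟩ := hs
  obtain ⟨c, d, hcd, rfl⟩ := ht
  rw [support_swap hab, support_swap hcd] at h
  have hc : c ∈ ({a, b} : Finset α) := h ▸ Finset.mem_insert_self c _
  have hd : d ∈ ({a, b} : Finset α) := h ▸ Finset.mem_insert_of_mem (Finset.mem_singleton_self d)
  simp only [Finset.mem_insert, Finset.mem_singleton] at hc hd
  rcases hc with rfl | rfl <;> rcases hd with rfl | rfl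
  · exact absurd rfl hcd
  · rfl
  · exact swap_comm _ _
  · exact absurd rfl hcd

theorem apply_other {a b : α} (hab : a ≠ b) {z : α} (hz : z ∈ ({a, b} : Finset α)) :
    swap a b z ∈ ({a, b} : Finset α) ∧ swap a b z ≠ z := by
  simp only [Finset.mem_insert, Finset.mem_singleton] at hz
  rcases hz with rfl | rfl
  · simp [hab.symm]
  · simp [hab]

theorem disjoint_of_commute {s t : Perm α} (hs : s.IsSwap) (ht : t.IsSwap) (hc : Commute s t)
    (hne : s ≠ t) : _root_.Disjoint s.support t.support := by
  rw [Finset.disjoint_left]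
  intro z hzs hzt
  have hmem : s z ∈ t.support := by
    rw [mem_support] at hzt ⊢
    intro h
    refine hzt (s.injective ?_)
    have := congrArg (fun f : Perm α => f z) hc.eq
    simp only [Perm.mul_apply] at this
    rw [this, h]
  have hpair : ∀ u : Perm α, u.IsSwap → z ∈ u.support → s z ∈ u.support → u.support = {z, s z} := by
    intro u hu h1 h2
    refine (Finset.eq_of_subset_of_card_le ?_ ?_).symm
    · intro w hw
      simp only [Finset.mem_insert, Finset.mem_singleton] at hw
      rcases hw with rfl | rfl <;> assumption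
    · rw [support_card hu, Finset.card_pair]
      exact fun e => mem_support.1 hzs e.symm
  exact hne (eq_of_support_eq hs ht
    ((hpair s hs hzs (apply_mem_support.2 hzs)).trans (hpair t ht hzt hmem).symm))

theorem commute_of_disjoint {s t : Perm α} (h : _root_.Disjoint s.support t.support) : Commute s t :=
  (disjoint_iff_disjoint_support.2 h).commute

theorem pow_three_of_not_commute {s t : Perm α} (hs : s.IsSwap) (ht : t.IsSwap) (h : ¬ Commute s t) :
    (s * t) ^ 3 = 1 := by
  obtain ⟨z, hzs, hzt⟩ := Finset.not_disjoint_iff.1 fun hd => h (commute_of_disjoint hd)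
  obtain ⟨a, b, hab, rfl⟩ := hs
  obtain ⟨c, d, hcd, rfl⟩ := ht
  rw [support_swap hab] at hzs
  rw [support_swap hcd] at hzt
  obtain ⟨a', ha', hs'⟩ : ∃ a', a' ≠ z ∧ swap a b = swap z a' := by
    simp only [Finset.mem_insert, Finset.mem_singleton] at hzs
    rcases hzs with rfl | rfl
    · exact ⟨b, hab.symm, rfl⟩
    · exact ⟨a, hab, swap_comm _ _⟩
  obtain ⟨c', hc', ht'⟩ : ∃ c', c' ≠ z ∧ swap c d = swap z c' := by
    simp only [Finset.mem_insert, Finset.mem_singleton] at hzt
    rcases hzt with rfl | rfl
    · exact ⟨d, hcd.symm, rfl⟩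
    · exact ⟨c, hcd, swap_comm _ _⟩
  rw [hs', ht'] at h ⊢
  have hne : a' ≠ c' := by rintro rfl; exact h (Commute.refl _)
  have h3 := isThreeCycle_swap_mul_swap_same ha'.symm hc'.symm hne
  have e := pow_orderOf_eq_one (swap z a' * swap z c')
  rwa [h3.orderOf] at e

theorem not_commute_swap {z a c : α} (ha : a ≠ z) (hc : c ≠ z) (hac : a ≠ c) :
    ¬ Commute (swap z a) (swap z c) := by
  intro h
  have hne : swap z a ≠ swap z c := fun e => by
    have := congrArg (fun f : Perm α => f z) e
    simp at this
    exact hac this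
  have hd := disjoint_of_commute ⟨z, a, ha.symm, rfl⟩ ⟨z, c, hc.symm, rfl⟩ h hne
  rw [support_swap ha.symm, support_swap hc.symm] at hd
  exact Finset.disjoint_left.1 hd (Finset.mem_insert_self z _) (Finset.mem_insert_self z _)

theorem commute_swap {a b c d : α} (h1 : a ≠ c) (h2 : a ≠ d) (h3 : b ≠ c) (h4 : b ≠ d) :
    Commute (swap a b) (swap c d) := by
  refine Disjoint.commute fun z => ?_
  by_cases hz : z = a ∨ z = b
  · rcases hz with rfl | rfl
    · exact Or.inr (swap_apply_of_ne_of_ne h1 h2)
    · exact Or.inr (swap_apply_of_ne_of_ne h3 h4)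
  · push Not at hz
    exact Or.inl (swap_apply_of_ne_of_ne hz.1 hz.2)

/-- A subgroup containing all transpositions through one point is everything. -/
theorem eq_top_of_star (R : Subgroup (Perm α)) (u₀ : α) (h : ∀ u, u ≠ u₀ → swap u₀ u ∈ R) : R = ⊤ := by
  rw [eq_top_iff, ← closure_isSwap, Subgroup.closure_le]
  rintro _ ⟨u, v, huv, rfl⟩
  by_cases hu : u = u₀
  · subst hu; exact h v huv.symm
  by_cases hv : v = u₀
  · subst hv; rw [swap_comm]; exact h u hu
  have := swap_mul_swap_mul_swap (x := v) (y := u₀) (z := u) (Ne.symm ?_) ?_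
  · rw [SetLike.mem_coe, ← this]
    exact R.mul_mem (R.mul_mem (h u hu) (by rw [swap_comm]; exact h v hv)) (h u hu)
  · exact fun e => hv e.symm
  · exact fun e => huv e.symm

/-- The configuration forcing two transpositions to commute. -/
theorem commute_of_config {X A B C : Perm α} (hX : X.IsSwap) (hA : A.IsSwap) (hB : B.IsSwap)
    (hC : C.IsSwap) (hAX : ¬ Commute A X) (hBX : Commute B X) (hBX' : B ≠ X) (hCA : ¬ Commute C A)
    (hCX : Commute C X) (hCX' : C ≠ X) (hCB : Commute C B) (hCB' : C ≠ B) : Commute A B := by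
  by_contra h
  obtain ⟨q, hqA, hqX⟩ := Finset.not_disjoint_iff.1 fun hd => hAX (commute_of_disjoint hd)
  obtain ⟨w, hwA, hwB⟩ := Finset.not_disjoint_iff.1 fun hd => h (commute_of_disjoint hd)
  obtain ⟨c, hcC, hcA⟩ := Finset.not_disjoint_iff.1 fun hd => hCA (commute_of_disjoint hd)
  have hne : q ≠ w := fun e =>
    Finset.disjoint_left.1 (disjoint_of_commute hB hX hBX hBX') hwB (e ▸ hqX)
  have hA' : A.support = {q, w} := by
    refine (Finset.eq_of_subset_of_card_le ?_ ?_).symm
    · intro z hz
      simp only [Finset.mem_insert, Finset.mem_singleton] at hz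
      rcases hz with rfl | rfl <;> assumption
    · rw [support_card hA, Finset.card_pair hne]
  rw [hA', Finset.mem_insert, Finset.mem_singleton] at hcA
  rcases hcA with rfl | rfl
  · exact Finset.disjoint_left.1 (disjoint_of_commute hC hX hCX hCX') hcC hqX
  · exact Finset.disjoint_left.1 (disjoint_of_commute hC hB hCB hCB') hcC hwB

end CfsgLib.SwapPerms
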