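import Mathlib

/-! Two primes in the upper half of an initial interval. -/

set_option autoImplicit false

namespace CfsgLib.TwoPrimes

open Nat

/-- Exponential growth beats a linear function. -/
theorem eight_mul_add_le : ∀ j : ℕ, 6 ≤ j → 8 * j + 8 ≤ 2 ^ j := by
  intro j hj
  induction j, hj using Nat.le_induction with
  | base => norm_num
  | succ j hj ih => rw [pow_succ]; omega

/-- The inequality used for the large intervals. -/
theorem main_inequality {m : ℕ} (hm : 2048 ≤ m) :
    m * ((2 * m) * ((2 * m) ^ Nat.sqrt (2 * m) * 4 ^ (2 * m / 3))) ≤ 4 ^ m := by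
  set s := Nat.sqrt (2 * m) with hs
  have h1 : s * s ≤ 2 * m := Nat.sqrt_le (2 * m)
  have h2 : 2 * m < (s + 1) * (s + 1) := Nat.lt_succ_sqrt (2 * m)
  have h63 : 63 ≤ s := Nat.le_sqrt.2 (by omega)
  set j := Nat.log 2 (s + 1) + 1 with hj
  have h3 : s + 1 < 2 ^ j := Nat.lt_pow_succ_log_self (by norm_num) _
  have h4 : 2 ^ (j - 1) ≤ s + 1 := Nat.pow_log_le_self 2 (by omega)
  have h5 : 6 ≤ j - 1 := by
    show 6 ≤ Nat.log 2 (s + 1) + 1 - 1
    rw [Nat.add_sub_cancel]
    exact Nat.le_log_of_pow_le (by norm_num) (by omega)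
  have h6 : 8 * j ≤ s + 1 := by
    have := (eight_mul_add_le (j - 1) h5).trans h4
    omega
  have h7 : j * (s + 2) * 3 ≤ m := by nlinarith
  calc m * ((2 * m) * ((2 * m) ^ s * 4 ^ (2 * m / 3)))
      ≤ (2 * m) * ((2 * m) * ((2 * m) ^ s * 4 ^ (2 * m / 3))) := by gcongr; omega
    _ = (2 * m) ^ (s + 2) * 4 ^ (2 * m / 3) := by ring
    _ ≤ (4 ^ j) ^ (s + 2) * 4 ^ (2 * m / 3) := by
        gcongr
        calc 2 * m ≤ 2 ^ j * 2 ^ j := le_of_lt (h2.trans_le (Nat.mul_le_mul h3.le h3.le))
          _ = 4 ^ j := by rw [← mul_pow]; norm_num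
    _ ≤ 4 ^ m := by
        rw [← pow_mul, ← pow_add]
        exact Nat.pow_le_pow_right (by norm_num) (by omega)

/-- Two primes between `m` and `2 * m` for large `m`. -/
theorem eventually_two {m : ℕ} (hm : 2048 ≤ m) :
    ∃ p r : ℕ, p.Prime ∧ r.Prime ∧ p < r ∧ m < p ∧ r ≤ 2 * m := by
  by_contra hno
  push Not at hno
  obtain ⟨p, hp, hmp, hp2⟩ := Nat.exists_prime_lt_and_le_two_mul m (by omega)
  have hother : ∀ r, r.Prime → r ≠ p → m < r → 2 * m < r := by
    intro r hr hne hmr
    by_contra h
    rcases lt_or_gt_of_ne hne with h' | h'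
    · have := hno r p hr hp h' hmr; omega
    · have := hno p r hp hr h' hmp; omega
  have hfac : centralBinom m ≤ (2 * m) * ((2 * m) ^ Nat.sqrt (2 * m) * 4 ^ (2 * m / 3)) := by
    let f x := x ^ m.centralBinom.factorization x
    let S := {r ∈ Finset.range (2 * m / 3 + 1) | Nat.Prime r}
    have hsplit : centralBinom m = f p * ∏ x ∈ S, f x := by
      have hpS : p ∉ S := by
        intro h
        have := Finset.mem_range.1 (Finset.mem_filter.1 h).1
        omega
      rw [← Finset.prod_insert hpS]
      refine (Eq.trans ?_ m.prod_pow_factorization_centralBinom).symm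
      refine Finset.prod_subset ?_ fun x hx h2x => ?_
      · intro x hx
        rcases Finset.mem_insert.1 hx with rfl | hx
        · exact Finset.mem_range.2 (by omega)
        · have := Finset.mem_range.1 (Finset.mem_filter.1 hx).1
          exact Finset.mem_range.2 (by omega)
      · show x ^ m.centralBinom.factorization x = 1
        by_cases hxp : x.Prime
        · rw [Finset.mem_insert, not_or] at h2x
          have hbig : 2 * m / 3 < x := by
            by_contra h
            exact h2x.2 (Finset.mem_filter.2 ⟨Finset.mem_range.2 (by omega), hxp⟩)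
          have hxm : x ≤ m := by
            by_contra h
            have := hother x hxp h2x.1 (by omega)
            have := Finset.mem_range.1 hx
            omega
          rw [Nat.factorization_centralBinom_of_two_mul_self_lt_three_mul (by omega) hxm (by omega),
            pow_zero]
        · rw [Nat.factorization_eq_zero_of_not_prime _ hxp, pow_zero]
    rw [hsplit]
    refine Nat.mul_le_mul ?_ ?_
    · exact Nat.pow_factorization_choose_le (by omega)
    rw [← Finset.prod_filter_mul_prod_filter_not S (· ≤ Nat.sqrt (2 * m))]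
    refine Nat.mul_le_mul ?_ ?_
    · refine (Finset.prod_le_prod' fun x _ => (?_ : f x ≤ 2 * m)).trans ?_
      · exact Nat.pow_factorization_choose_le (by omega)
      rw [Finset.prod_const]
      refine Nat.pow_le_pow_right (by omega) ?_
      refine (Finset.card_le_card fun x hx => ?_).trans
        (show (Finset.Icc 1 (Nat.sqrt (2 * m))).card = Nat.sqrt (2 * m) by simp).le
      obtain ⟨h1, h2⟩ := Finset.mem_filter.1 hx
      exact Finset.mem_Icc.mpr ⟨(Finset.mem_filter.1 h1).2.one_lt.le, h2⟩
    · refine le_trans ?_ (primorial_le_four_pow (2 * m / 3))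
      refine (Finset.prod_le_prod' fun x hx => (?_ : f x ≤ x)).trans ?_
      · obtain ⟨h1, h2⟩ := Finset.mem_filter.1 hx
        refine (pow_right_mono₀ (Finset.mem_filter.1 h1).2.one_lt.le ?_).trans (pow_one x).le
        exact Nat.factorization_choose_le_one (Nat.sqrt_lt'.mp <| not_le.1 h2)
      refine Finset.prod_le_prod_of_subset_of_one_le' (Finset.filter_subset _ _) ?_
      exact fun x hx _ => (Finset.mem_filter.1 hx).2.one_lt.le
  have hlow : 4 ^ m < m * centralBinom m := Nat.four_pow_lt_mul_centralBinom m (by omega)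
  exact absurd ((Nat.mul_le_mul_left m hfac).trans (main_inequality hm)) (by omega)

/-- For `n ≥ 11` there are two primes in `(n/2, n]`. -/
theorem exists_two_primes {n : ℕ} (hn : 11 ≤ n) :
    ∃ p r : ℕ, p.Prime ∧ r.Prime ∧ p < r ∧ n < 2 * p ∧ r ≤ n := by
  have step : ∀ p r : ℕ, p.Prime → r.Prime → p < r → r ≤ n → n < 2 * p →
      ∃ p r : ℕ, p.Prime ∧ r.Prime ∧ p < r ∧ n < 2 * p ∧ r ≤ n :=
    fun p r h1 h2 h3 h4 h5 => ⟨p, r, h1, h2, h3, h5, h4⟩
  by_cases hbig : 4096 ≤ n
  · obtain ⟨p, r, h1, h2, h3, h4, h5⟩ := eventually_two (m := n / 2) (by omega)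
    exact step p r h1 h2 h3 (by omega) (by omega)
  by_cases c1 : n < 14
  · exact step 7 11 (by norm_num) (by norm_num) (by norm_num) hn (by omega)
  by_cases c2 : n < 22
  · exact step 11 13 (by norm_num) (by norm_num) (by norm_num) (by omega) (by omega)
  by_cases c3 : n < 34
  · exact step 17 19 (by norm_num) (by norm_num) (by norm_num) (by omega) (by omega)
  by_cases c4 : n < 58
  · exact step 29 31 (by norm_num) (by norm_num) (by norm_num) (by omega) (by omega)
  by_cases c5 : n < 94
  · exact step 47 53 (by norm_num) (by norm_num) (by norm_num) (by omega) (by omega)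
  by_cases c6 : n < 166
  · exact step 83 89 (by norm_num) (by norm_num) (by norm_num) (by omega) (by omega)
  by_cases c7 : n < 314
  · exact step 157 163 (by norm_num) (by norm_num) (by norm_num) (by omega) (by omega)
  by_cases c8 : n < 614
  · exact step 307 311 (by norm_num) (by norm_num) (by norm_num) (by omega) (by omega)
  by_cases c9 : n < 1202
  · exact step 601 607 (by norm_num) (by norm_num) (by norm_num) (by omega) (by omega)
  by_cases c10 : n < 2386
  · exact step 1193 1201 (by norm_num) (by norm_num) (by norm_num) (by omega) (by omega)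
  · exact step 2377 2381 (by norm_num) (by norm_num) (by norm_num) (by omega) (by omega)

end CfsgLib.TwoPrimes
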