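import Mathlib.LinearAlgebra.Matrix.GeneralLinearGroup.Defs
import Mathlib.LinearAlgebra.Matrix.Charpoly.Coeff
import Mathlib.FieldTheory.Finite.Extension
import Mathlib.RingTheory.LittleWedderburn
import Mathlib.LinearAlgebra.Matrix.ToLin
import Cfsg.Agent.PrimeGraph.PSL2Spectrum

/-! The element orders of `PGL(2,q)`, `q` odd. -/

set_option autoImplicit false

namespace CfsgLib.SpecBlow

open Matrix

variable {F : Type*} [Field F]

/-- A `2 × 2` matrix minus half its trace squares to a scalar. -/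
theorem sub_half_trace_sq (h2 : (2 : F) ≠ 0) (A : Matrix (Fin 2) (Fin 2) F) :
    (A - (A.trace / 2) • 1) * (A - (A.trace / 2) • 1) = ((A.trace / 2) ^ 2 - A.det) • 1 := by
  rw [trace_fin_two, det_fin_two]
  ext i j
  fin_cases i <;> fin_cases j <;> simp [Matrix.mul_apply, Fin.sum_univ_two] <;> field_simp <;> ring

theorem ringChar_ne_two (h2 : (2 : F) ≠ 0) : ringChar F ≠ 2 := fun h => h2 (by
  have := ringChar.Nat.cast_ringChar (R := F)
  rw [h] at this
  exact_mod_cast this)

theorem mk_pow_eq_one_iff (A : GL (Fin 2) F) (n : ℕ) :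
    (QuotientGroup.mk A : GL (Fin 2) F ⧸ Subgroup.center (GL (Fin 2) F)) ^ n = 1 ↔
      ∃ c : F, (A : Matrix (Fin 2) (Fin 2) F) ^ n = c • 1 := by
  rw [← QuotientGroup.mk_pow, QuotientGroup.eq_one_iff,
    GeneralLinearGroup.center_eq_range_scalar]
  constructor
  · rintro ⟨u, hu⟩
    refine ⟨u, ?_⟩
    have := congrArg (fun g : GL (Fin 2) F => (g : Matrix (Fin 2) (Fin 2) F)) hu
    simp only [Units.val_pow_eq_pow_val] at this
    rw [← this, smul_one_eq_diagonal]
    rfl
  · rintro ⟨c, hc⟩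
    have hc0 : c ≠ 0 := fun h => by
      have hu := (A ^ n).det_ne_zero
      rw [Units.val_pow_eq_pow_val, hc, h, zero_smul] at hu
      exact hu (det_zero)
    refine ⟨Units.mk0 c hc0, Units.ext ?_⟩
    rw [Units.val_pow_eq_pow_val, hc, smul_one_eq_diagonal]
    rfl

variable [Fintype F] (p : ℕ) [hp : Fact p.Prime] [CharP F p]

theorem two_ne_zero_of_odd (hp2 : p ≠ 2) : (2 : F) ≠ 0 := by
  intro h
  have : ((2 : ℕ) : F) = 0 := by exact_mod_cast h
  rw [CharP.cast_eq_zero_iff F p] at this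
  exact hp2 ((Nat.prime_dvd_prime_iff_eq hp.out Nat.prime_two).1 this)

theorem orderOf_pgl_dvd (hp2 : p ≠ 2)
    (g : GL (Fin 2) F ⧸ Subgroup.center (GL (Fin 2) F)) :
    orderOf g ∣ p ∨ orderOf g ∣ Fintype.card F - 1 ∨ orderOf g ∣ Fintype.card F + 1 := by
  obtain ⟨A, rfl⟩ := QuotientGroup.mk_surjective g
  have h2 : (2 : F) ≠ 0 := two_ne_zero_of_odd p hp2
  set M := (A : Matrix (Fin 2) (Fin 2) F) with hM
  set s := M.trace / 2 with hs
  set B := M - s • 1 with hB
  set e := s ^ 2 - M.det with he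
  have hBB : B * B = e • 1 := sub_half_trace_sq h2 M
  have hMB : M = s • 1 + B := by rw [hB]; abel
  have : CharP (Matrix (Fin 2) (Fin 2) F) p := Matrix.charP p
  have hcomm : Commute (s • (1 : Matrix (Fin 2) (Fin 2) F)) B := (Commute.one_left B).smul_left s
  by_cases he0 : e = 0
  · refine Or.inl (orderOf_dvd_of_pow_eq_one ((mk_pow_eq_one_iff A p).2 ⟨s ^ p, ?_⟩))
    rw [← hM, hMB, add_pow_char_of_commute p hcomm, _root_.smul_pow, one_pow]
    have : B ^ p = 0 := by
      rw [← Nat.add_sub_cancel' hp.out.two_le, pow_add, pow_two, hBB, he0, zero_smul, zero_mul]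
    rw [this, add_zero]
  obtain ⟨n, -, hn⟩ := FiniteField.card F p
  set q := Fintype.card F with hq
  have hodd : q % 2 = 1 := FiniteField.odd_card_of_char_ne_two (ringChar_ne_two h2)
  have hMq : M ^ q = s • 1 + e ^ (q / 2) • B := by
    rw [show q = p ^ (n : ℕ) from hn] at hodd ⊢
    rw [hMB, add_pow_char_pow_of_commute p (n : ℕ) hcomm, _root_.smul_pow, one_pow]
    congr 1
    · rw [← show q = p ^ (n : ℕ) from hn, FiniteField.pow_card]
    · have h' : p ^ (n : ℕ) = 2 * (p ^ (n : ℕ) / 2) + 1 := by omega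
      conv_lhs => rw [h', pow_succ, pow_mul, pow_two, hBB, _root_.smul_pow, one_pow, smul_mul_assoc,
        one_mul]
  rcases FiniteField.pow_dichotomy (ringChar_ne_two h2) he0 with h | h
  · refine Or.inr (Or.inl (orderOf_dvd_of_pow_eq_one ((mk_pow_eq_one_iff A _).2 ⟨1, ?_⟩)))
    rw [← hq] at h
    rw [h, one_smul, ← hMB] at hMq
    rw [one_smul]
    have h1 : A ^ q = A := Units.ext (by rw [Units.val_pow_eq_pow_val]; exact hMq)
    have h3 : A ^ (q - 1) = 1 := mul_right_cancel (b := A) (by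
      rw [← pow_succ, one_mul, Nat.sub_add_cancel Fintype.one_lt_card.le, h1])
    have := congrArg (fun g : GL (Fin 2) F => (g : Matrix (Fin 2) (Fin 2) F)) h3
    simpa using this
  · refine Or.inr (Or.inr (orderOf_dvd_of_pow_eq_one ((mk_pow_eq_one_iff A _).2 ⟨s * s - e, ?_⟩)))
    rw [← hq] at h
    rw [h] at hMq
    rw [← hM, pow_succ, hMq]
    conv_lhs => rw [hMB]
    simp only [add_mul, mul_add, smul_mul_assoc, one_mul, mul_smul_comm, mul_one, hBB]
    module

theorem exists_pgl_order_p :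
    ∃ g : GL (Fin 2) F ⧸ Subgroup.center (GL (Fin 2) F), orderOf g = p := by
  have hu : Matrix.det (!![(1 : F), 1; 0, 1]) ≠ 0 := by simp [det_fin_two]
  refine ⟨QuotientGroup.mk (GeneralLinearGroup.mkOfDetNeZero _ hu), orderOf_eq_prime ?_ ?_⟩
  · rw [mk_pow_eq_one_iff]
    refine ⟨1, ?_⟩
    have h : ∀ n : ℕ, (!![(1 : F), 1; 0, 1]) ^ n = !![1, (n : F); 0, 1] := by
      intro n
      induction n with
      | zero => simp [Matrix.one_fin_two]
      | succ n ih => rw [pow_succ, ih]; simp [Matrix.mul_fin_two, add_comm]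
    show (!![(1 : F), 1; 0, 1]) ^ p = _
    rw [h, CharP.cast_eq_zero, one_smul, Matrix.one_fin_two]
  · intro h
    obtain ⟨c, hc⟩ := (mk_pow_eq_one_iff _ 1).1 (by rw [pow_one]; exact h)
    rw [pow_one] at hc
    have h01 := congrFun (congrFun hc 0) 1
    simp [GeneralLinearGroup.mkOfDetNeZero] at h01

theorem exists_pgl_order_sub :
    ∃ g : GL (Fin 2) F ⧸ Subgroup.center (GL (Fin 2) F), orderOf g = Fintype.card F - 1 := by
  obtain ⟨a, ha⟩ := IsCyclic.exists_ofOrder_eq_natCard (α := Fˣ)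
  have hord : orderOf (a : F) = Fintype.card F - 1 := by
    rw [orderOf_units, ha, Nat.card_units, Nat.card_eq_fintype_card]
  have hu : Matrix.det (diagonal ![(a : F), 1]) ≠ 0 := by simp [det_fin_two]
  refine ⟨QuotientGroup.mk (GeneralLinearGroup.mkOfDetNeZero _ hu), ?_⟩
  rw [← hord]
  refine orderOf_eq_orderOf_iff.2 fun n => ?_
  rw [mk_pow_eq_one_iff]
  show (∃ c : F, (diagonal ![(a : F), 1]) ^ n = c • 1) ↔ _
  rw [diagonal_pow]
  constructor
  · rintro ⟨c, hc⟩
    have h0 := congrFun (congrFun hc 0) 0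
    have h1 := congrFun (congrFun hc 1) 1
    simp at h0 h1
    rw [h0, h1]
  · intro h
    refine ⟨1, ?_⟩
    ext i j
    fin_cases i <;> fin_cases j <;> simp [h]

theorem exists_pgl_order_add (p : ℕ) [Fact p.Prime] [CharP F p] :
    ∃ g : GL (Fin 2) F ⧸ Subgroup.center (GL (Fin 2) F), orderOf g = Fintype.card F + 1 := by
  classical
  let K := FiniteField.Extension F p 2
  let f : K →ₐ[F] Matrix (Fin 2) (Fin 2) F :=
    Algebra.leftMulMatrix (Module.finBasisOfFinrankEq F K (FiniteField.finrank_extension F p 2))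
  have hf : Function.Injective f := Algebra.leftMulMatrix_injective _
  obtain ⟨z, hz⟩ := IsCyclic.exists_ofOrder_eq_natCard (α := Kˣ)
  set q := Fintype.card F with hq
  have hq1 : 1 < q := Fintype.one_lt_card
  have hzord : orderOf z = (q - 1) * (q + 1) := by
    rw [hz, Nat.card_units, FiniteField.natCard_extension, Nat.card_eq_fintype_card, ← hq]
    obtain ⟨k, hk⟩ : ∃ k, q = k + 1 := ⟨q - 1, by omega⟩
    rw [hk]
    simp only [Nat.add_sub_cancel]
    ring_nf
    omega
  refine ⟨QuotientGroup.mk (Units.map f.toRingHom.toMonoidHom z), ?_⟩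
  have key : ∀ n : ℕ, (QuotientGroup.mk (Units.map f.toRingHom.toMonoidHom z) :
      GL (Fin 2) F ⧸ Subgroup.center (GL (Fin 2) F)) ^ n = 1 ↔ q + 1 ∣ n := by
    intro n
    rw [mk_pow_eq_one_iff]
    show (∃ c : F, (f (z : K)) ^ n = c • 1) ↔ _
    constructor
    · rintro ⟨c, hc⟩
      rw [← map_pow, ← Algebra.algebraMap_eq_smul_one, ← AlgHom.commutes f] at hc
      have hc' := hf hc
      have hc0 : c ≠ 0 := fun h => by
        rw [h, map_zero] at hc'
        exact pow_ne_zero n z.ne_zero hc'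
      have h1 : z ^ (n * (q - 1)) = 1 := Units.ext (by
        rw [Units.val_pow_eq_pow_val, pow_mul, hc', ← map_pow,
          FiniteField.pow_card_sub_one_eq_one c hc0, map_one]
        rfl)
      have hd := orderOf_dvd_of_pow_eq_one h1
      rw [hzord, mul_comm n] at hd
      exact Nat.dvd_of_mul_dvd_mul_left (by omega) hd
    · rintro ⟨k, rfl⟩
      have h1 : ((z : K) ^ (q + 1)) ^ q = (z : K) ^ (q + 1) := by
        have h2 : z ^ ((q + 1) * q) = z ^ (q + 1) := by
          have e : (q + 1) * q = (q + 1) + (q - 1) * (q + 1) := by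
            obtain ⟨j, hj⟩ : ∃ j, q = j + 1 := ⟨q - 1, by omega⟩
            rw [hj, Nat.add_sub_cancel]; ring
          rw [e, pow_add, ← hzord, pow_orderOf_eq_one, mul_one]
        have := congrArg Units.val h2
        simpa [pow_mul] using this
      obtain ⟨c, hc⟩ := CfsgLib.PSL2Spec.mem_range_of_pow_card (algebraMap F K) h1
      refine ⟨c ^ k, ?_⟩
      rw [← map_pow, ← Algebra.algebraMap_eq_smul_one, ← AlgHom.commutes f, pow_mul, ← hc, map_pow,
        map_pow, map_pow]
  exact Nat.dvd_antisymm (orderOf_dvd_of_pow_eq_one ((key _).2 dvd_rfl))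
    ((key _).1 (pow_orderOf_eq_one _))

theorem range_orderOf_pgl (hp2 : p ≠ 2) :
    Set.range (orderOf : GL (Fin 2) F ⧸ Subgroup.center (GL (Fin 2) F) → ℕ) =
      {n | n ∣ p ∨ n ∣ Fintype.card F - 1 ∨ n ∣ Fintype.card F + 1} := by
  ext n
  constructor
  · rintro ⟨g, rfl⟩
    exact orderOf_pgl_dvd p hp2 g
  · rintro (h | h | h)
    · obtain ⟨g, hg⟩ := exists_pgl_order_p (F := F) p
      exact PSL2Spec.mem_range_orderOf_of_dvd (hg ▸ h)
    · obtain ⟨g, hg⟩ := exists_pgl_order_sub (F := F)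
      exact PSL2Spec.mem_range_orderOf_of_dvd (hg ▸ h)
    · obtain ⟨g, hg⟩ := exists_pgl_order_add (F := F) p
      exact PSL2Spec.mem_range_orderOf_of_dvd (hg ▸ h)

end CfsgLib.SpecBlow
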