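import Cfsg.Agent.SpecBlow.Basic
import Cfsg.Agent.SpecBlow.PGL2
import Mathlib.GroupTheory.SemidirectProduct

/-! A Frobenius group `3⁴:(5:8)` with the element orders of `PGL(2,9)`. -/

set_option autoImplicit false

namespace CfsgLib.SpecBlow.PGLNine

open Matrix

abbrev M := Matrix (Fin 4) (Fin 4) (ZMod 3)

/-- An element of order 10. -/
def c : M := !![0, 0, 0, 2; 1, 0, 0, 1; 0, 1, 0, 2; 0, 0, 1, 1]

/-- An element of order 8 normalising `c`. -/
def x : M := !![0, 2, 1, 0; 0, 2, 2, 1; 1, 0, 1, 1; 1, 0, 1, 0]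

theorem x_mul_c : x * c = c ^ 3 * x := by decide +kernel

theorem c_pow : c ^ 10 = 1 := by decide +kernel

theorem x_pow : x ^ 4 = c ^ 5 := by decide +kernel

theorem fpf_check : ∀ i < 10, ∀ j < 4, (i = 0 ∧ j = 0) ∨
    (∑ k ∈ Finset.range 8, (c ^ i * x ^ j) ^ k) = 0 ∧ (c ^ i * x ^ j) ^ 8 = 1 ∨
    (∑ k ∈ Finset.range 10, (c ^ i * x ^ j) ^ k) = 0 ∧ (c ^ i * x ^ j) ^ 10 = 1 := by decide +kernel

theorem c_order : ∀ j < 10, 0 < j → c ^ j ≠ 1 := by decide +kernel

theorem x_order : ∀ j < 8, 0 < j → x ^ j ≠ 1 := by decide +kernel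

/-- `c` as a unit. -/
def uc : Mˣ := Units.ofPowEqOne c 10 c_pow (by decide)

/-- `x` as a unit. -/
def ux : Mˣ := Units.ofPowEqOne x 8 (by decide +kernel) (by decide)

/-- The complement. -/
def C : Subgroup Mˣ where
  carrier := {u | ∃ i j : ℕ, (u : M) = c ^ i * x ^ j}
  one_mem' := ⟨0, 0, by simp⟩
  mul_mem' := fun {u v} hu hv => by
    obtain ⟨i, j, hu⟩ := hu
    obtain ⟨k, l, hv⟩ := hv
    have h1 : ∀ j, x ^ j * c = c ^ (3 ^ j) * x ^ j := by
      intro j
      induction j with
      | zero => simp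
      | succ j ih =>
        have hs : ∀ m, x * c ^ m = c ^ (3 * m) * x := by
          intro m
          induction m with
          | zero => simp
          | succ m ihm =>
            rw [pow_succ, ← mul_assoc, ihm, mul_assoc, x_mul_c, ← mul_assoc, ← pow_add,
              Nat.mul_succ]
        rw [pow_succ', mul_assoc, ih, ← mul_assoc, hs, mul_assoc, pow_succ' 3 j]
    have h2 : ∀ k, x ^ j * c ^ k = c ^ (3 ^ j * k) * x ^ j := by
      intro k
      induction k with
      | zero => simp
      | succ k ih =>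
        rw [pow_succ, ← mul_assoc, ih, mul_assoc, h1, ← mul_assoc, ← pow_add, Nat.mul_succ]
    refine ⟨i + 3 ^ j * k, j + l, ?_⟩
    rw [Units.val_mul, hu, hv, mul_assoc, ← mul_assoc (x ^ j), h2, pow_add, pow_add]
    simp [mul_assoc]
  inv_mem' := fun {u} hu => by
    obtain ⟨i, j, hu⟩ := hu
    have hf : IsOfFinOrder u := isOfFinOrder_of_finite u
    have key : ∀ n : ℕ, ∃ a b : ℕ, ((u ^ n : Mˣ) : M) = c ^ a * x ^ b := by
      intro n
      induction n with
      | zero => exact ⟨0, 0, by simp⟩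
      | succ n ih =>
        obtain ⟨a, b, h⟩ := ih
        have h1 : ∀ j, x ^ j * c = c ^ (3 ^ j) * x ^ j := by
          intro j
          induction j with
          | zero => simp
          | succ j ihj =>
            have hs : ∀ m, x * c ^ m = c ^ (3 * m) * x := by
              intro m
              induction m with
              | zero => simp
              | succ m ihm =>
                rw [pow_succ, ← mul_assoc, ihm, mul_assoc, x_mul_c, ← mul_assoc, ← pow_add,
                  Nat.mul_succ]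
            rw [pow_succ', mul_assoc, ihj, ← mul_assoc, hs, mul_assoc, pow_succ' 3 j]
        have h2 : ∀ k, x ^ b * c ^ k = c ^ (3 ^ b * k) * x ^ b := by
          intro k
          induction k with
          | zero => simp
          | succ k ihk =>
            rw [pow_succ, ← mul_assoc, ihk, mul_assoc, h1, ← mul_assoc, ← pow_add, Nat.mul_succ]
        refine ⟨a + 3 ^ b * i, b + j, ?_⟩
        rw [pow_succ, Units.val_mul, h, hu, mul_assoc, ← mul_assoc (x ^ b), h2, pow_add, pow_add]
        simp [mul_assoc]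
    obtain ⟨n, hn⟩ : ∃ n : ℕ, u⁻¹ = u ^ n := ⟨orderOf u - 1, by
      refine inv_eq_of_mul_eq_one_right ?_
      rw [← pow_succ', Nat.sub_add_cancel hf.orderOf_pos]
      exact pow_orderOf_eq_one u⟩
    show ∃ a b : ℕ, ((u⁻¹ : Mˣ) : M) = c ^ a * x ^ b
    rw [hn]
    exact key n

/-- The matrix of an element of the complement. -/
def mat : C →* M := (Units.coeHom M).comp C.subtype

theorem mat_injective : Function.Injective mat := fun _ _ h => Subtype.ext (Units.ext h)

theorem exists_small (u : C) : ∃ i < 10, ∃ j < 4, mat u = c ^ i * x ^ j := by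
  obtain ⟨i, j, h⟩ := u.2
  refine ⟨(i + 5 * (j / 4)) % 10, Nat.mod_lt _ (by norm_num), j % 4, Nat.mod_lt _ (by norm_num), ?_⟩
  have hm : ∀ a, c ^ (a % 10) = c ^ a := fun a => by
    conv_rhs => rw [← Nat.mod_add_div a 10, pow_add, pow_mul, c_pow, one_pow, mul_one]
  rw [hm]
  show (u.1 : M) = _
  rw [h]
  conv_lhs => rw [← Nat.div_add_mod j 4, pow_add, pow_mul, x_pow, ← pow_mul, ← mul_assoc, ← pow_add]

/-- The action on the vectors. -/
def φ : C →* MulAut (Multiplicative (Fin 4 → ZMod 3)) where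
  toFun u := AddEquiv.toMultiplicative
    { toFun := fun v => mat u *ᵥ v
      invFun := fun v => mat u⁻¹ *ᵥ v
      left_inv := fun v => by
        show mat u⁻¹ *ᵥ (mat u *ᵥ v) = v
        rw [mulVec_mulVec, ← map_mul, inv_mul_cancel, map_one, one_mulVec]
      right_inv := fun v => by
        show mat u *ᵥ (mat u⁻¹ *ᵥ v) = v
        rw [mulVec_mulVec, ← map_mul, mul_inv_cancel, map_one, one_mulVec]
      map_add' := fun v w => mulVec_add _ v w }
  map_one' := MulEquiv.ext fun v => congrArg Multiplicative.ofAdd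
    (show mat 1 *ᵥ v.toAdd = v.toAdd by rw [map_one, one_mulVec])
  map_mul' a b := MulEquiv.ext fun v => congrArg Multiplicative.ofAdd
    (show mat (a * b) *ᵥ v.toAdd = mat a *ᵥ (mat b *ᵥ v.toAdd) by rw [map_mul, mulVec_mulVec])

/-- The Frobenius group. -/
abbrev G₁ := Multiplicative (Fin 4 → ZMod 3) ⋊[φ] C

instance : Finite G₁ := Finite.of_equiv _ SemidirectProduct.equivProd.symm

theorem pow_left (g : G₁) (n : ℕ) : (g ^ n).right = g.right ^ n ∧
    Multiplicative.toAdd (g ^ n).left =
      (∑ i ∈ Finset.range n, mat g.right ^ i) *ᵥ Multiplicative.toAdd g.left := by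
  induction n with
  | zero => exact ⟨by simp, by simp⟩
  | succ n ih =>
    obtain ⟨h1, h2⟩ := ih
    refine ⟨by rw [pow_succ, SemidirectProduct.mul_right, h1, pow_succ], ?_⟩
    rw [Finset.sum_range_succ, Matrix.add_mulVec, ← h2, pow_succ, ← map_pow, ← h1]
    rfl

theorem eq_one_of {g : G₁} (h0 : g.right = 1) (h1 : Multiplicative.toAdd g.left = 0) : g = 1 :=
  SemidirectProduct.ext (Multiplicative.toAdd.injective h1) h0

theorem pow_three {g : G₁} (h : g.right = 1) : g ^ 3 = 1 := by
  obtain ⟨h0, h1⟩ := pow_left g 3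
  refine eq_one_of (by rw [h0, h, one_pow]) ?_
  rw [h1, h, map_one]
  simp [show (3 : M) = 0 by decide +kernel]

theorem orderOf_dvd (g : G₁) : orderOf g ∣ 3 ∨ orderOf g ∣ 8 ∨ orderOf g ∣ 10 := by
  obtain ⟨i, hi, j, hj, h⟩ := exists_small g.right
  rcases fpf_check i hi j hj with ⟨rfl, rfl⟩ | ⟨h1, h2⟩ | ⟨h1, h2⟩
  · refine Or.inl (orderOf_dvd_of_pow_eq_one (pow_three (mat_injective ?_)))
    rw [h, map_one]; simp
  all_goals rw [← h] at h1 h2
  · refine Or.inr (Or.inl (orderOf_dvd_of_pow_eq_one ?_))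
    obtain ⟨e0, e1⟩ := pow_left g 8
    refine eq_one_of ?_ (by rw [e1, h1, zero_mulVec])
    rw [e0]
    exact mat_injective (by rw [map_pow, h2, map_one])
  · refine Or.inr (Or.inr (orderOf_dvd_of_pow_eq_one ?_))
    obtain ⟨e0, e1⟩ := pow_left g 10
    refine eq_one_of ?_ (by rw [e1, h1, zero_mulVec])
    rw [e0]
    exact mat_injective (by rw [map_pow, h2, map_one])

theorem range_orderOf : Set.range (orderOf : G₁ → ℕ) = {n | n ∣ 3 ∨ n ∣ 8 ∨ n ∣ 10} := by
  ext n
  constructor
  · rintro ⟨g, rfl⟩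
    exact orderOf_dvd g
  · have lift : ∀ (u : Mˣ) (hu : u ∈ C), orderOf (SemidirectProduct.inr ⟨u, hu⟩ : G₁) = orderOf u :=
      fun u hu => (orderOf_injective _ SemidirectProduct.inr_injective _).trans
        (Subgroup.orderOf_mk u hu)
    rintro (h | h | h)
    · refine PSL2Spec.mem_range_orderOf_of_dvd
        (g := (SemidirectProduct.inl (Multiplicative.ofAdd ![1, 0, 0, 0]) : G₁)) ?_
      have : Fact (Nat.Prime 3) := ⟨by norm_num⟩
      rwa [orderOf_eq_prime (p := 3) (pow_three rfl) ?_]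
      intro h1
      have := congrFun (congrArg (fun g : G₁ => Multiplicative.toAdd g.left) h1) 0
      simp at this
    · refine PSL2Spec.mem_range_orderOf_of_dvd
        (g := (SemidirectProduct.inr ⟨ux, ⟨0, 1, by simp [ux]⟩⟩ : G₁)) ?_
      have e : orderOf (ux : M) = 8 := (orderOf_eq_iff (n := 8) (by norm_num)).2
        ⟨(by decide +kernel : x ^ 8 = 1), fun m hm hm0 => x_order m hm hm0⟩
      exact (((lift ux _).trans orderOf_units.symm).trans e).symm ▸ h
    · refine PSL2Spec.mem_range_orderOf_of_dvd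
        (g := (SemidirectProduct.inr ⟨uc, ⟨1, 0, by simp [uc]⟩⟩ : G₁)) ?_
      have e : orderOf (uc : M) = 10 := (orderOf_eq_iff (n := 10) (by norm_num)).2
        ⟨c_pow, fun m hm hm0 => c_order m hm hm0⟩
      exact (((lift uc _).trans orderOf_units.symm).trans e).symm ▸ h

theorem exists_large {F : Type*} [Field F] [Fintype F] (hF : Fintype.card F = 9) (k : ℕ) :
    ∃ (H : Type) (_ : Group H) (_ : Fintype H), k < Fintype.card H ∧
      Set.range (orderOf : H → ℕ) =
        Set.range (orderOf : GL (Fin 2) F ⧸ Subgroup.center (GL (Fin 2) F) → ℕ) := by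
  obtain ⟨p, hchar⟩ := CharP.exists F
  obtain ⟨n, hp, hn⟩ := FiniteField.card F p
  have : Fact p.Prime := ⟨hp⟩
  have hp3 : p = 3 := by
    rw [hF] at hn
    have : p ∣ 3 ^ 2 := by
      rw [show (3 : ℕ) ^ 2 = p ^ (n : ℕ) by rw [← hn]; norm_num]
      exact dvd_pow_self p n.pos.ne'
    exact (Nat.prime_dvd_prime_iff_eq hp Nat.prime_three).1 (hp.dvd_of_dvd_pow this)
  subst hp3
  rw [range_orderOf_pgl 3 (by norm_num), hF, ← range_orderOf]
  refine exists_large_isospectral (SemidirectProduct.rightHom : G₁ →* C).ker ?_ Nat.prime_three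
    (fun g => ?_) k
  · intro h
    have hmem : (SemidirectProduct.inl (Multiplicative.ofAdd ![1, 0, 0, 0]) : G₁) ∈
        (⊥ : Subgroup G₁) := by
      rw [← h]; exact SemidirectProduct.rightHom_inl _
    rw [Subgroup.mem_bot] at hmem
    have := congrFun (congrArg (fun g : G₁ => Multiplicative.toAdd g.left) hmem) 0
    simp at this
  · refine Subtype.ext ?_
    rw [SubmonoidClass.coe_pow]
    exact pow_three (MonoidHom.mem_ker.1 g.2)

end CfsgLib.SpecBlow.PGLNine
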