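import Cfsg.Agent.SpecBlow.Basic
import Cfsg.Agent.SpecBlow.PGL2
import Mathlib.GroupTheory.SemidirectProduct

/-! Unboundedly many groups with the element orders of `PGL(2,p)`. -/

set_option autoImplicit false

namespace CfsgLib.SpecBlow.PGLPrime

open Matrix

variable (p : ℕ) [hp : Fact p.Prime]

abbrev W := ProjectiveSpecialLinearGroup (Fin 2) (ZMod p)

/-- Functions whose sum along every orbit of an element of order `p` vanishes. -/
def Mod : AddSubgroup (W p → ZMod 2) where
  carrier := {f | ∀ w : W p, orderOf w = p → ∀ b, ∑ i ∈ Finset.range p, f (w ^ i * b) = 0}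
  zero_mem' := fun w _ b => by simp
  add_mem' := fun {f g} hf hg w hw b => by simp [Finset.sum_add_distrib, hf w hw b, hg w hw b]
  neg_mem' := fun {f} hf w hw b => by simp [hf w hw b]

variable {p}

/-- Left translation. -/
def act (c : W p) (f : Mod p) : Mod p :=
  ⟨fun x => f.1 (c⁻¹ * x), fun w hw b => by
    have h := f.2 (c⁻¹ * w * c) (by
      rw [show c⁻¹ * w * c = MulAut.conj c⁻¹ w by simp, MulEquiv.orderOf_eq, hw]) (c⁻¹ * b)
    refine Eq.trans (Finset.sum_congr rfl fun i _ => ?_) h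
    have e : (c⁻¹ * w * c) ^ i = c⁻¹ * w ^ i * c := by
      simpa using conj_pow (a := c⁻¹) (b := w) (i := i)
    rw [e]
    congr 1
    group⟩

theorem act_one (f : Mod p) : act 1 f = f := by
  apply Subtype.ext
  funext x
  simp [act]

theorem act_mul (c d : W p) (f : Mod p) : act (c * d) f = act c (act d f) := by
  apply Subtype.ext
  funext x
  simp [act, mul_assoc]

/-- Translation as an automorphism. -/
def actEquiv (c : W p) : Mod p ≃+ Mod p where
  toFun := act c
  invFun := act c⁻¹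
  left_inv f := by rw [← act_mul, inv_mul_cancel, act_one]
  right_inv f := by rw [← act_mul, mul_inv_cancel, act_one]
  map_add' f g := by apply Subtype.ext; rfl

variable (p) in
/-- The action on the module. -/
def φ : W p →* MulAut (Multiplicative (Mod p)) where
  toFun c := AddEquiv.toMultiplicative (actEquiv c)
  map_one' := MulEquiv.ext fun f => congrArg Multiplicative.ofAdd (act_one f.toAdd)
  map_mul' c d := MulEquiv.ext fun f => congrArg Multiplicative.ofAdd (act_mul c d f.toAdd)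

variable (p) in
/-- The witness group. -/
abbrev G₁ := Multiplicative (Mod p) ⋊[φ p] W p

instance : Finite (G₁ p) := Finite.of_equiv _ SemidirectProduct.equivProd.symm

/-- The module coordinate. -/
def vec (x : G₁ p) : W p → ZMod 2 := ((Multiplicative.toAdd x.left : Mod p) : W p → ZMod 2)

theorem vec_mem (x : G₁ p) : vec x ∈ Mod p := (Multiplicative.toAdd x.left : Mod p).2

theorem pow_coords (x : G₁ p) (n : ℕ) : (x ^ n).right = x.right ^ n ∧
    ∀ t, vec (x ^ n) t = ∑ i ∈ Finset.range n, vec x ((x.right ^ i)⁻¹ * t) := by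
  induction n with
  | zero => exact ⟨by simp, fun t => by simp [vec]⟩
  | succ n ih =>
    obtain ⟨h1, h2⟩ := ih
    refine ⟨by rw [pow_succ, SemidirectProduct.mul_right, h1, pow_succ], fun t => ?_⟩
    rw [Finset.sum_range_succ, ← h2 t, pow_succ, ← h1]
    rfl

theorem ext_coords {x : G₁ p} (h0 : x.right = 1) (h1 : ∀ t, vec x t = 0) : x = 1 :=
  SemidirectProduct.ext (Multiplicative.toAdd.injective (Subtype.ext (funext h1))) h0

theorem pow_two_mul (x : G₁ p) {m : ℕ} (h : x.right ^ m = 1) : x ^ (m * 2) = 1 := by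
  rw [pow_mul]
  obtain ⟨h0, h1⟩ := pow_coords (x ^ m) 2
  have hr : (x ^ m).right = 1 := (pow_coords x m).1.trans h
  refine ext_coords (by rw [h0, hr, one_pow]) fun t => ?_
  rw [h1, hr]
  simp only [one_pow, inv_one, one_mul, Finset.sum_const, Finset.card_range, nsmul_eq_mul]
  exact mul_eq_zero_of_left (by decide) _

theorem pow_p (x : G₁ p) (h : orderOf x.right = p) : x ^ p = 1 := by
  obtain ⟨h0, h1⟩ := pow_coords x p
  refine ext_coords (by rw [h0]; exact orderOf_dvd_iff_pow_eq_one.1 (dvd_of_eq h)) fun t => ?_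
  rw [h1]
  refine Eq.trans (Finset.sum_congr rfl fun i _ => ?_)
    (vec_mem x x.right⁻¹ (by rw [orderOf_inv, h]) t)
  rw [inv_pow]

/-- The class function supported on two traces. -/
noncomputable def fTrace (τ : ZMod p) (w : W p) : ZMod 2 := by
  classical
  exact if ∃ A : SpecialLinearGroup (Fin 2) (ZMod p), (QuotientGroup.mk A : W p) = w ∧
    (A : Matrix (Fin 2) (Fin 2) (ZMod p)).trace = τ then 1 else 0

theorem fTrace_mk (τ : ZMod p) (A : SpecialLinearGroup (Fin 2) (ZMod p)) : fTrace τ (QuotientGroup.mk A) =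
    if (A : Matrix (Fin 2) (Fin 2) (ZMod p)).trace = τ ∨
      (A : Matrix (Fin 2) (Fin 2) (ZMod p)).trace = -τ then 1 else 0 := by
  classical
  unfold fTrace
  congr 1
  apply propext
  constructor
  · rintro ⟨A', h, ht⟩
    have h' : (QuotientGroup.mk (A⁻¹ * A') : W p) = 1 := by
      rw [QuotientGroup.mk_mul, QuotientGroup.mk_inv, h, inv_mul_cancel]
    obtain ⟨c, hc⟩ := (PSL2Spec.mk_eq_one_iff _).1 h'
    have hdet : c * c = 1 := by
      have h1 := (A⁻¹ * A').2
      rw [hc, det_fin_two] at h1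
      simp only [Matrix.smul_apply, Matrix.one_apply_eq, smul_eq_mul, mul_one,
        Matrix.one_apply_ne (show (0 : Fin 2) ≠ 1 by decide), mul_zero, zero_mul, sub_zero] at h1
      exact h1
    have hA' : (A' : Matrix (Fin 2) (Fin 2) (ZMod p)) =
        c • (A : Matrix (Fin 2) (Fin 2) (ZMod p)) := by
      calc (A' : Matrix (Fin 2) (Fin 2) (ZMod p))
          = ((A * (A⁻¹ * A') : SpecialLinearGroup (Fin 2) (ZMod p)) : Matrix (Fin 2) (Fin 2) (ZMod p)) := by
            rw [mul_inv_cancel_left]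
        _ = _ := by rw [Matrix.SpecialLinearGroup.coe_mul, hc, mul_smul_comm, mul_one]
    rw [hA', trace_smul, smul_eq_mul] at ht
    rcases mul_self_eq_one_iff.1 hdet with rfl | rfl
    · exact Or.inl (by simpa using ht)
    · exact Or.inr (by rw [← ht]; simp)
  · rintro (h | h)
    · exact ⟨A, rfl, h⟩
    · refine ⟨-A, ?_, by simp [h]⟩
      rw [← inv_mul_eq_one, ← QuotientGroup.mk_inv, ← QuotientGroup.mk_mul, PSL2Spec.mk_eq_one_iff]
      refine ⟨-1, ?_⟩
      have e : (-A)⁻¹ * A = -1 := by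
        rw [inv_mul_eq_iff_eq_mul]; simp
      rw [e]; simp

variable (hp2 : p ≠ 2)

include hp2

theorem two_ne : (2 : ZMod p) ≠ 0 := two_ne_zero_of_odd p hp2

theorem exists_lift {w : W p} (hw : orderOf w = p) : ∃ A : SpecialLinearGroup (Fin 2) (ZMod p), (QuotientGroup.mk A : W p) = w ∧
    ∃ B : Matrix (Fin 2) (Fin 2) (ZMod p), (A : Matrix (Fin 2) (Fin 2) (ZMod p)) = 1 + B ∧
      B ≠ 0 ∧ B * B = 0 ∧ B 1 1 = - B 0 0 := by
  obtain ⟨A, rfl⟩ := QuotientGroup.mk_surjective w
  have h2 := two_ne hp2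
  set M := (A : Matrix (Fin 2) (Fin 2) (ZMod p)) with hM
  set s := M.trace / 2 with hs
  set B := M - s • 1 with hB
  have hBB := sub_half_trace_sq h2 M
  have hMB : M = s • 1 + B := by rw [hB]; abel
  rw [← hs, ← hB, A.2] at hBB
  have hwp : (QuotientGroup.mk (A ^ p) : W p) = 1 := by
    rw [QuotientGroup.mk_pow]; exact orderOf_dvd_iff_pow_eq_one.1 (dvd_of_eq hw)
  obtain ⟨c, hc⟩ := (PSL2Spec.mk_eq_one_iff _).1 hwp
  have hne : ∀ c : ZMod p, M ≠ c • 1 := fun d hd => by
    have : (QuotientGroup.mk A : W p) = 1 := (PSL2Spec.mk_eq_one_iff A).2 ⟨d, hd⟩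
    rw [this, orderOf_one] at hw
    exact hp.out.one_lt.ne hw
  have : CharP (Matrix (Fin 2) (Fin 2) (ZMod p)) p := Matrix.charP p
  have hcomm : Commute (s • (1 : Matrix (Fin 2) (Fin 2) (ZMod p))) B :=
    (Commute.one_left B).smul_left s
  have hodd : p = 2 * (p / 2) + 1 := by
    have := Nat.odd_iff.1 (hp.out.odd_of_ne_two hp2); omega
  set e := s ^ 2 - 1 with he
  have he0 : e = 0 := by
    by_contra he0
    rw [Matrix.SpecialLinearGroup.coe_pow, ← hM, hMB, add_pow_char_of_commute p hcomm, _root_.smul_pow,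
      one_pow] at hc
    have hBp : B ^ p = e ^ (p / 2) • B := by
      have h' : B ^ (2 * (p / 2) + 1) = e ^ (p / 2) • B := by
        rw [pow_succ, pow_mul, pow_two, hBB, _root_.smul_pow, one_pow, smul_mul_assoc, one_mul]
      rw [← hodd] at h'
      exact h'
    rw [hBp] at hc
    have hq : e ^ (p / 2) ≠ 0 := pow_ne_zero _ he0
    refine hne (s + (c - s ^ p) / e ^ (p / 2)) ?_
    have hb : B = ((c - s ^ p) / e ^ (p / 2)) • 1 := by
      rw [div_eq_inv_mul, ← smul_smul, sub_smul, ← hc, add_sub_cancel_left, smul_smul,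
        inv_mul_cancel₀ hq, one_smul]
    rw [hMB, add_smul, hb]
  rw [he0, zero_smul] at hBB
  have hs2 : s * s = 1 := by rw [← pow_two]; exact sub_eq_zero.1 he0
  have htr : B 1 1 = - B 0 0 := by
    simp [hB, hs, trace_fin_two]
    field_simp
    ring
  rcases mul_self_eq_one_iff.1 hs2 with h | h
  · refine ⟨A, rfl, B, ?_, ?_, hBB, htr⟩
    · rw [← hM, hMB, h, one_smul]
    · intro h0
      exact hne s (by rw [hMB, h0, add_zero])
  · refine ⟨-A, ?_, -B, ?_, ?_, by rw [neg_mul_neg]; exact hBB, ?_⟩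
    · rw [← inv_mul_eq_one, ← QuotientGroup.mk_inv, ← QuotientGroup.mk_mul, PSL2Spec.mk_eq_one_iff]
      refine ⟨-1, ?_⟩
      have e : (-A)⁻¹ * A = -1 := by
        rw [inv_mul_eq_iff_eq_mul]; simp
      rw [e]; simp
    · rw [Matrix.SpecialLinearGroup.coe_neg, ← hM, hMB, h, neg_add, neg_smul, one_smul, neg_neg]
    · intro h0
      exact hne s (by rw [hMB, neg_eq_zero.1 h0, add_zero])
    · simp [htr]

theorem fTrace_mem {τ : ZMod p} (hτ : τ ≠ 0) (hsq : ¬ IsSquare (τ * τ - 4)) :
    fTrace τ ∈ Mod p := by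
  classical
  intro w hw b
  obtain ⟨A, rfl, B, hA, hB0, hBB, htr⟩ := exists_lift hp2 hw
  obtain ⟨X, rfl⟩ := QuotientGroup.mk_surjective b
  set x := (X : Matrix (Fin 2) (Fin 2) (ZMod p))
  have hpow : ∀ i : ℕ, (A : Matrix (Fin 2) (Fin 2) (ZMod p)) ^ i = 1 + (i : ZMod p) • B := by
    intro i
    induction i with
    | zero => simp
    | succ i ih =>
      rw [pow_succ, ih, hA, Nat.cast_succ, add_smul, one_smul, mul_add, mul_one, add_mul, one_mul,
        smul_mul_assoc, hBB, smul_zero, add_zero, add_assoc]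
  have hterm : ∀ i : ℕ, fTrace τ (QuotientGroup.mk A ^ i * QuotientGroup.mk X) =
      if x.trace + (i : ZMod p) * (B * x).trace = τ ∨
        x.trace + (i : ZMod p) * (B * x).trace = -τ then 1 else 0 := by
    intro i
    rw [← QuotientGroup.mk_pow, ← QuotientGroup.mk_mul, fTrace_mk]
    have : ((A ^ i * X : SpecialLinearGroup (Fin 2) (ZMod p)) : Matrix (Fin 2) (Fin 2) (ZMod p)).trace =
        x.trace + (i : ZMod p) * (B * x).trace := by
      rw [Matrix.SpecialLinearGroup.coe_mul, Matrix.SpecialLinearGroup.coe_pow, hpow, add_mul, one_mul,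
        smul_mul_assoc, trace_add, trace_smul, smul_eq_mul]
    rw [this]
  rw [Finset.sum_congr rfl fun i _ => hterm i]
  have hne : τ ≠ -τ := fun h => hτ (by
    have e : (2 : ZMod p) * τ = 0 := by linear_combination h
    exact (mul_eq_zero.1 e).resolve_left (two_ne hp2))
  by_cases hc : (B * x).trace = 0
  · simp only [hc, mul_zero, add_zero, Finset.sum_const, Finset.card_range]
    rw [if_neg]
    · simp
    rintro hx
    apply hsq
    have hτ2 : τ * τ = x.trace * x.trace := by rcases hx with h | h <;> rw [h] <;> ring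
    rw [hτ2, trace_fin_two]
    have hd : x 0 0 * x 1 1 - x 0 1 * x 1 0 = 1 := by rw [← det_fin_two]; exact X.2
    have hb2 : B 0 0 * B 0 0 + B 0 1 * B 1 0 = 0 := by
      have := congrFun (congrFun hBB 0) 0
      simpa [Matrix.mul_apply, Fin.sum_univ_two] using this
    simp [trace_fin_two, Matrix.mul_apply, Fin.sum_univ_two, htr] at hc
    by_cases hb : B 0 1 = 0
    · have ha : B 0 0 = 0 := by
        rw [hb, zero_mul, add_zero] at hb2
        exact mul_self_eq_zero.1 hb2
      have hcne : B 1 0 ≠ 0 := fun h0 => hB0 (by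
        ext i j; fin_cases i <;> fin_cases j <;> simp [ha, hb, h0, htr])
      rw [ha, hb] at hc
      have hx01 : x 0 1 = 0 := by simpa [hcne] using hc
      rw [hx01] at hd
      exact ⟨x 0 0 - x 1 1, by linear_combination 4 * hd⟩
    · refine ⟨2 * (x 0 0 - x 0 1 * (B 0 0 / B 0 1)) - (x 0 0 + x 1 1), ?_⟩
      field_simp
      grind
  · let g : ℕ → ZMod p := fun i => x.trace + (i : ZMod p) * (B * x).trace
    have hinj : Set.InjOn g (Finset.range p : Set ℕ) := by
      intro i hi j hj hij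
      simp only [Finset.coe_range, Set.mem_Iio] at hi hj
      have : (i : ZMod p) = j := mul_right_cancel₀ hc (add_left_cancel hij)
      rw [ZMod.natCast_eq_natCast_iff'] at this
      rwa [Nat.mod_eq_of_lt hi, Nat.mod_eq_of_lt hj] at this
    have himg : (Finset.range p).image g = Finset.univ := by
      refine Finset.eq_univ_of_card _ ?_
      rw [Finset.card_image_of_injOn hinj, Finset.card_range, ZMod.card]
    show ∑ i ∈ Finset.range p, (fun t => if t = τ ∨ t = -τ then (1 : ZMod 2) else 0) (g i) = 0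
    rw [← Finset.sum_image (s := Finset.range p) (g := g)
      (f := fun t => if t = τ ∨ t = -τ then (1 : ZMod 2) else 0) hinj, himg, Finset.sum_boole]
    have : (Finset.univ.filter fun t : ZMod p => t = τ ∨ t = -τ) = {τ, -τ} := by ext t; simp
    rw [this, Finset.card_pair hne]
    decide

theorem exists_trace (hp5 : 5 ≤ p) : ∃ τ : ZMod p, τ ≠ 0 ∧ ¬ IsSquare (τ * τ - 4) := by
  by_contra hcon
  push Not at hcon
  have h2 := two_ne hp2
  have hnz : ∀ k : ℕ, 0 < k → k < p → ((k : ℕ) : ZMod p) ≠ 0 := fun k h0 hk h => by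
    rw [ZMod.natCast_eq_zero_iff] at h
    exact Nat.not_lt.2 (Nat.le_of_dvd h0 h) hk
  have hstep : ∀ k : ℕ, k + 1 < p → IsSquare ((k + 1 : ℕ) : ZMod p) → IsSquare ((k : ℕ) : ZMod p) := by
    rintro k hk ⟨r, hr⟩
    have hr0 : r ≠ 0 := fun h => hnz _ (Nat.succ_pos k) hk (by rw [hr, h, mul_zero])
    obtain ⟨s, hs⟩ := hcon (2 * r) (mul_ne_zero h2 hr0)
    refine ⟨s / 2, ?_⟩
    field_simp
    push_cast at hr
    linear_combination hs + 4 * hr
  have h4 : IsSquare ((4 : ℕ) : ZMod p) := ⟨2, by norm_num⟩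
  have h3 : IsSquare ((3 : ℕ) : ZMod p) := hstep 3 (by omega) h4
  have hsq2 : IsSquare ((2 : ℕ) : ZMod p) := hstep 2 (by omega) h3
  have hall : ∀ k : ℕ, k < p → IsSquare ((k : ℕ) : ZMod p) := by
    intro k
    induction k using Nat.strong_induction_on with
    | _ k ih =>
      intro hk
      by_cases hk4 : k ≤ 4
      · interval_cases k
        · simp
        · simp
        · exact hsq2
        · exact h3
        · exact h4
      · rcases Nat.even_or_odd k with ⟨j, hj⟩ | ⟨j, hj⟩
        · rw [show k = 2 * j by omega, Nat.cast_mul]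
          exact hsq2.mul (ih j (by omega) (by omega))
        · have hpodd := Nat.odd_iff.1 (hp.out.odd_of_ne_two hp2)
          refine hstep k (by omega) ?_
          rw [show k + 1 = 2 * (j + 1) by omega, Nat.cast_mul]
          exact hsq2.mul (ih (j + 1) (by omega) (by omega))
  obtain ⟨a, ha⟩ := FiniteField.exists_nonsquare (F := ZMod p) (ringChar_ne_two h2)
  exact ha (by simpa using hall a.val (ZMod.val_lt a))

theorem exists_norm_ne {τ : ZMod p} (hτ : τ ≠ 0) (hsq : ¬ IsSquare (τ * τ - 4)) (g : W p) {m : ℕ}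
    (hm : orderOf g = m) (hmp : ¬ m ∣ p) :
    ∃ t : W p, ∑ i ∈ Finset.range m, fTrace τ ((g ^ i)⁻¹ * t) = 1 := by
  classical
  have h2 := two_ne hp2
  have hg : orderOf g⁻¹ = m := by rw [orderOf_inv, hm]
  obtain ⟨A, hA⟩ := QuotientGroup.mk_surjective g⁻¹
  set M := (A : Matrix (Fin 2) (Fin 2) (ZMod p)) with hM
  set s := M.trace / 2 with hs
  set B := M - s • 1 with hB
  have hBB := sub_half_trace_sq h2 M
  have hMB : M = s • 1 + B := by rw [hB]; abel
  rw [← hs, ← hB, A.2] at hBB
  set e := s ^ 2 - 1 with he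
  have he0 : e ≠ 0 := fun h => hmp (by
    rw [← hg, ← hA]
    refine orderOf_dvd_of_pow_eq_one ?_
    rw [← QuotientGroup.mk_pow, PSL2Spec.mk_eq_one_iff]
    refine ⟨s ^ p, ?_⟩
    have : CharP (Matrix (Fin 2) (Fin 2) (ZMod p)) p := Matrix.charP p
    rw [Matrix.SpecialLinearGroup.coe_pow, ← hM, hMB,
      add_pow_char_of_commute p ((Commute.one_left B).smul_left s), _root_.smul_pow, one_pow]
    have : B ^ p = 0 :=
      pow_eq_zero_of_le hp.out.two_le (by rw [pow_two, hBB, h, zero_smul])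
    rw [this, add_zero])
  have htr : B 1 1 = - B 0 0 := by
    simp [hB, hs, trace_fin_two]
    field_simp
    ring
  have hb2 : B 0 0 * B 0 0 + B 0 1 * B 1 0 = e := by
    have := congrFun (congrFun hBB 0) 0
    simpa [Matrix.mul_apply, Fin.sum_univ_two] using this
  obtain ⟨X, Z, hXZ⟩ : ∃ X Z : ZMod p, -X ^ 2 + e * Z ^ 2 = 1 - (τ / 2) ^ 2 := by
    obtain ⟨a, b, hab⟩ := FiniteField.exists_root_sum_quadratic
      (f := -Polynomial.X ^ 2) (g := Polynomial.C e * Polynomial.X ^ 2 - Polynomial.C (1 - (τ / 2) ^ 2))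
      (by rw [Polynomial.degree_neg, Polynomial.degree_X_pow]; rfl)
      (by compute_degree!)
      (by rw [ZMod.card]; exact Nat.odd_iff.1 (hp.out.odd_of_ne_two hp2))
    exact ⟨a, b, by simp at hab; linear_combination hab⟩
  -- a traceless matrix orthogonal to `B` of given determinant
  obtain ⟨x, y, z, hort, hdet⟩ : ∃ x y z : ZMod p,
      2 * B 0 0 * x + B 0 1 * z + B 1 0 * y = 0 ∧ -x ^ 2 - y * z = 1 - (τ / 2) ^ 2 := by
    by_cases hc : B 1 0 = 0
    · by_cases hb : B 0 1 = 0
      · exact ⟨0, 1, -(1 - (τ / 2) ^ 2), by rw [hc, hb]; ring, by ring⟩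
      · refine ⟨X + B 0 0 * Z, B 0 1 * Z, -(2 * B 0 0 * (X + B 0 0 * Z)) / B 0 1, ?_, ?_⟩
        · rw [hc]; field_simp; ring
        · rw [hc, mul_zero, add_zero] at hb2
          have e1 : B 0 1 * Z * (-(2 * B 0 0 * (X + B 0 0 * Z)) / B 0 1) =
              -(2 * B 0 0 * (X + B 0 0 * Z)) * Z := by field_simp
          rw [e1]
          linear_combination hXZ + Z ^ 2 * hb2
    · refine ⟨X + B 0 0 * Z, -(2 * B 0 0 * (X + B 0 0 * Z) + B 0 1 * (B 1 0 * Z)) / B 1 0,
        B 1 0 * Z, ?_, ?_⟩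
      · field_simp; ring
      · have e1 : -(2 * B 0 0 * (X + B 0 0 * Z) + B 0 1 * (B 1 0 * Z)) / B 1 0 * (B 1 0 * Z) =
            -(2 * B 0 0 * (X + B 0 0 * Z) + B 0 1 * (B 1 0 * Z)) * Z := by field_simp
        rw [e1]
        linear_combination hXZ + Z ^ 2 * hb2
  let T : SpecialLinearGroup (Fin 2) (ZMod p) := ⟨!![τ / 2 + x, y; z, τ / 2 - x], by rw [det_fin_two_of]; linear_combination hdet⟩
  refine ⟨QuotientGroup.mk T, ?_⟩
  have hspan : ∀ i : ℕ, ∃ α β : ZMod p, M ^ i = α • 1 + β • B := by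
    intro i
    induction i with
    | zero => exact ⟨1, 0, by simp⟩
    | succ i ih =>
      obtain ⟨α, β, h⟩ := ih
      refine ⟨α * s + β * e, α + β * s, ?_⟩
      rw [pow_succ, h, hMB]
      simp only [add_mul, mul_add, smul_mul_assoc, one_mul, mul_smul_comm, mul_one, hBB]
      module
  have hterm : ∀ i ∈ Finset.range m, fTrace τ ((g ^ i)⁻¹ * QuotientGroup.mk T) =
      if i = 0 then 1 else 0 := by
    intro i hi
    rw [Finset.mem_range] at hi
    rw [← inv_pow, ← hA, ← QuotientGroup.mk_pow, ← QuotientGroup.mk_mul, fTrace_mk]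
    obtain ⟨α, β, hαβ⟩ := hspan i
    have ht : ((A ^ i * T : SpecialLinearGroup (Fin 2) (ZMod p)) : Matrix (Fin 2) (Fin 2) (ZMod p)).trace = α * τ := by
      rw [Matrix.SpecialLinearGroup.coe_mul, Matrix.SpecialLinearGroup.coe_pow, ← hM, hαβ, trace_fin_two]
      simp [T, Matrix.mul_apply, Fin.sum_univ_two, Matrix.one_apply, htr]
      linear_combination β * hort + α * (mul_div_cancel₀ τ h2)
    rw [ht]
    by_cases hi0 : i = 0
    · subst hi0
      rw [if_pos rfl, if_pos]
      rw [pow_zero] at hαβ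
      have h1 := congrFun (congrFun hαβ 0) 0
      have h2' := congrFun (congrFun hαβ 1) 1
      simp [Matrix.one_apply, htr] at h1 h2'
      left
      have : α = 1 := mul_left_cancel₀ h2 (by linear_combination -h1 - h2')
      rw [this, one_mul]
    · rw [if_neg hi0, if_neg]
      intro hor
      have hα : α * α = 1 := by
        rcases hor with h | h
        · rw [mul_left_eq_self₀.1 h |>.resolve_right hτ, one_mul]
        · have : α = -1 := mul_right_cancel₀ hτ (by rw [h]; ring)
          rw [this]; ring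
      have hdA : α * α - β * β * e = 1 := by
        have hd := (A ^ i).2
        rw [Matrix.SpecialLinearGroup.coe_pow, ← hM, hαβ, det_fin_two] at hd
        simp [Matrix.one_apply, htr] at hd
        linear_combination hd + β * β * hb2
      have hβ : β = 0 := by
        have : β * β * e = 0 := by linear_combination hα - hdA
        simpa [he0] using this
      have h1 : g⁻¹ ^ i = 1 := by
        rw [← hA, ← QuotientGroup.mk_pow, PSL2Spec.mk_eq_one_iff]
        exact ⟨α, by rw [Matrix.SpecialLinearGroup.coe_pow, ← hM, hαβ, hβ, zero_smul, add_zero]⟩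
      have := Nat.le_of_dvd (Nat.pos_of_ne_zero hi0) (orderOf_dvd_of_pow_eq_one h1)
      omega
  rw [Finset.sum_congr rfl hterm, Finset.sum_ite_eq' _ 0 fun _ => (1 : ZMod 2)]
  rw [if_pos]
  exact Finset.mem_range.2 (hm ▸ orderOf_pos g)

theorem range_orderOf (hp5 : 5 ≤ p) : Set.range (orderOf : G₁ p → ℕ) =
    Set.range (orderOf : GL (Fin 2) (ZMod p) ⧸ Subgroup.center (GL (Fin 2) (ZMod p)) → ℕ) := by
  rw [range_orderOf_pgl p hp2, ZMod.card]
  obtain ⟨τ, hτ, hsq⟩ := exists_trace hp2 hp5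
  have hodd := Nat.odd_iff.1 (hp.out.odd_of_ne_two hp2)
  have hgcd : Nat.gcd 2 (Fintype.card (ZMod p) - 1) = 2 :=
    Nat.gcd_eq_left (by rw [ZMod.card]; omega)
  ext n
  constructor
  · rintro ⟨x, rfl⟩
    rcases PSL2Spec.orderOf_dvd (F := ZMod p) p x.right with h | h | h
    · rcases (Nat.dvd_prime hp.out).1 h with h1 | h1
      · refine Or.inr (Or.inl ((orderOf_dvd_of_pow_eq_one (pow_two_mul x (m := 1) ?_)).trans ?_))
        · rw [pow_one]; exact orderOf_eq_one_iff.1 h1
        · omega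
      · exact Or.inl (orderOf_dvd_of_pow_eq_one (pow_p x h1))
    · rw [hgcd, ZMod.card] at h
      refine Or.inr (Or.inl ((orderOf_dvd_of_pow_eq_one
        (pow_two_mul x (orderOf_dvd_iff_pow_eq_one.1 h))).trans ?_))
      rw [Nat.div_mul_cancel (by omega)]
    · rw [hgcd, ZMod.card] at h
      refine Or.inr (Or.inr ((orderOf_dvd_of_pow_eq_one
        (pow_two_mul x (orderOf_dvd_iff_pow_eq_one.1 h))).trans ?_))
      rw [Nat.div_mul_cancel (by omega)]
  · have hlift : ∀ e : ℕ, 1 < e → e < p → (∃ w : W p, orderOf w = e) →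
        ∃ x : G₁ p, orderOf x = e * 2 := by
      rintro e he hep ⟨w, hw⟩
      obtain ⟨t, ht⟩ := exists_norm_ne hp2 hτ hsq w hw (fun hd => by
        rcases (Nat.dvd_prime hp.out).1 hd with h | h <;> omega)
      refine ⟨⟨Multiplicative.ofAdd ⟨fTrace τ, fTrace_mem hp2 hτ hsq⟩, w⟩, ?_⟩
      set x : G₁ p := ⟨Multiplicative.ofAdd ⟨fTrace τ, fTrace_mem hp2 hτ hsq⟩, w⟩
      have hup : orderOf x ∣ e * 2 :=
        orderOf_dvd_of_pow_eq_one (pow_two_mul x (by rw [← hw]; exact pow_orderOf_eq_one w))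
      have hlow : e ∣ orderOf x := hw ▸ orderOf_map_dvd SemidirectProduct.rightHom x
      have hne : x ^ e ≠ 1 := fun h => by
        have h1 := (pow_coords x e).2 t
        rw [h] at h1
        have h2 : (0 : ZMod 2) = 1 := h1.trans ht
        exact absurd h2 (by decide)
      obtain ⟨c, hc⟩ := hlow
      rw [hc] at hup ⊢
      rcases (Nat.dvd_prime Nat.prime_two).1 (Nat.dvd_of_mul_dvd_mul_left (by omega) hup) with h | h
      · exfalso
        refine hne ?_
        rw [show e = orderOf x by rw [hc, h, mul_one]]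
        exact pow_orderOf_eq_one x
      · rw [h]
    rintro (h | h | h)
    · obtain ⟨w, hw⟩ := PSL2Spec.exists_orderOf_p (F := ZMod p) p
      refine PSL2Spec.mem_range_orderOf_of_dvd (g := (SemidirectProduct.inr w : G₁ p)) ?_
      rwa [orderOf_injective _ SemidirectProduct.inr_injective, hw]
    · have he := PSL2Spec.exists_orderOf_minus (F := ZMod p)
      rw [hgcd, ZMod.card] at he
      obtain ⟨x, hx⟩ := hlift _ (by omega) (by omega) he
      refine PSL2Spec.mem_range_orderOf_of_dvd (g := x) ?_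
      rwa [hx, Nat.div_mul_cancel (by omega)]
    · have he := PSL2Spec.exists_orderOf_plus (F := ZMod p) p
      rw [hgcd, ZMod.card] at he
      obtain ⟨x, hx⟩ := hlift _ (by omega) (by omega) he
      refine PSL2Spec.mem_range_orderOf_of_dvd (g := x) ?_
      rwa [hx, Nat.div_mul_cancel (by omega)]

theorem exists_large (hp5 : 5 ≤ p) (k : ℕ) :
    ∃ (H : Type) (_ : Group H) (_ : Fintype H), k < Fintype.card H ∧
      Set.range (orderOf : H → ℕ) =
        Set.range (orderOf : GL (Fin 2) (ZMod p) ⧸ Subgroup.center (GL (Fin 2) (ZMod p)) → ℕ) := by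
  rw [← range_orderOf hp2 hp5]
  obtain ⟨τ, hτ, hsq⟩ := exists_trace hp2 hp5
  refine exists_large_isospectral (SemidirectProduct.rightHom : G₁ p →* W p).ker ?_ Nat.prime_two
    (fun x => ?_) k
  · intro h
    have hmem : (SemidirectProduct.inl (Multiplicative.ofAdd
        ⟨fTrace τ, fTrace_mem hp2 hτ hsq⟩) : G₁ p) ∈ (⊥ : Subgroup (G₁ p)) := by
      rw [← h]; exact SemidirectProduct.rightHom_inl _
    rw [Subgroup.mem_bot] at hmem
    obtain ⟨w, hw⟩ := PSL2Spec.exists_orderOf_minus (F := ZMod p)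
    rw [ZMod.card] at hw
    have hodd := Nat.odd_iff.1 (hp.out.odd_of_ne_two hp2)
    rw [Nat.gcd_eq_left (show 2 ∣ p - 1 by omega)] at hw
    obtain ⟨t, ht⟩ := exists_norm_ne hp2 hτ hsq w hw (fun hd => by
      rcases (Nat.dvd_prime hp.out).1 hd with h | h <;> omega)
    have hz : ∀ t, fTrace τ t = 0 := fun t =>
      congrFun (congrArg vec hmem) t
    simp [hz] at ht
  · refine Subtype.ext ?_
    rw [SubmonoidClass.coe_pow]
    exact pow_two_mul _ (m := 1) (by rw [pow_one]; exact MonoidHom.mem_ker.1 x.2)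

end CfsgLib.SpecBlow.PGLPrime
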