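import Cfsg.Agent.SpecBlow.AltSpectrum
import Cfsg.Agent.SpecBlow.Basic
import Cfsg.Agent.SpecBlow.FrobWitness

/-! The spectrum `{n : n ∣ 7, 8, 10, 12 or 15}`: the symmetric group of degree 8 and an unbounded family. -/

set_option autoImplicit false
set_option maxRecDepth 100000

namespace CfsgLib.SpecBlow.S8

open Equiv

theorem data_ok : ∀ q ∈ cycleData 8 8, ∃ m ∈ ([7, 8, 10, 12, 15] : List ℕ), q.1 ∣ m := by decide +kernel

theorem range_orderOf_perm :
    Set.range (orderOf : Perm (Fin 8) → ℕ) = {k | ∃ m ∈ ([7, 8, 10, 12, 15] : List ℕ), k ∣ m} := by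
  refine range_orderOf_eq _ (fun g => ?_) (fun m hm => ?_) (by decide)
  · rw [← Perm.lcm_cycleType]
    have hsum : g.cycleType.sum ≤ 8 := by
      rw [Perm.sum_cycleType]; exact le_of_le_of_eq (Finset.card_le_univ _) (Fintype.card_fin 8)
    have hcard : Multiset.card g.cycleType ≤ 8 := by
      refine le_trans ?_ hsum
      have := Multiset.card_nsmul_le_sum (a := 1) (s := g.cycleType)
        fun a ha => le_trans (by omega) (Perm.two_le_of_mem_cycleType ha)
      simpa using this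
    exact data_ok _ (mem_cycleData _ 8 8 (fun a ha => Perm.two_le_of_mem_cycleType ha) hsum hcard)
  · simp only [List.mem_cons, List.not_mem_nil, or_false] at hm
    rcases hm with rfl | rfl | rfl | rfl | rfl
    · exact ⟨List.formPerm [0, 1, 2, 3, 4, 5, 6],
        (orderOf_eq_iff (by decide)).2 ⟨by decide +kernel, by decide +kernel⟩⟩
    · exact ⟨List.formPerm [0, 1, 2, 3, 4, 5, 6, 7],
        (orderOf_eq_iff (by decide)).2 ⟨by decide +kernel, by decide +kernel⟩⟩
    · exact ⟨List.formPerm [0, 1, 2, 3, 4] * List.formPerm [5, 6],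
        (orderOf_eq_iff (by decide)).2 ⟨by decide +kernel, by decide +kernel⟩⟩
    · exact ⟨List.formPerm [0, 1, 2, 3] * List.formPerm [4, 5, 6],
        (orderOf_eq_iff (by decide)).2 ⟨by decide +kernel, by decide +kernel⟩⟩
    · exact ⟨List.formPerm [0, 1, 2, 3, 4] * List.formPerm [5, 6, 7],
        (orderOf_eq_iff (by decide)).2 ⟨by decide +kernel, by decide +kernel⟩⟩

/-- Binary vectors of length 8. -/
abbrev M : Type := Fin 8 → ZMod 2

/-- The permutation action on vectors. -/
def act : alternatingGroup (Fin 8) →* MulAut (Multiplicative M) where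
  toFun σ := AddEquiv.toMultiplicative
    { toFun := fun v i => v ((σ : Perm (Fin 8))⁻¹ i)
      invFun := fun v i => v ((σ : Perm (Fin 8)) i)
      left_inv := fun v => by funext i; simp
      right_inv := fun v => by funext i; simp
      map_add' := fun _ _ => rfl }
  map_one' := MulEquiv.ext fun v => rfl
  map_mul' σ τ := MulEquiv.ext fun v => by
    apply Multiplicative.toAdd.injective
    funext i
    show Multiplicative.toAdd v (((σ * τ : alternatingGroup (Fin 8)) : Perm (Fin 8))⁻¹ i) = _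
    rw [Subgroup.coe_mul, mul_inv_rev]
    rfl

/-- The semidirect product. -/
abbrev G0 : Type := Multiplicative M ⋊[act] alternatingGroup (Fin 8)

/-- The vector part. -/
def vec (x : G0) : M := Multiplicative.toAdd x.left

theorem vec_mul (x y : G0) (i : Fin 8) :
    vec (x * y) i = vec x i + vec y ((x.right : Perm (Fin 8))⁻¹ i) := rfl

theorem vec_one : vec (1 : G0) = 0 := rfl

theorem ext' {x y : G0} (h1 : vec x = vec y) (h2 : x.right = y.right) : x = y :=
  SemidirectProduct.ext (Multiplicative.toAdd.injective h1) h2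

theorem sum_mul (x y : G0) : ∑ i, vec (x * y) i = ∑ i, vec x i + ∑ i, vec y i := by
  simp only [vec_mul, Finset.sum_add_distrib]
  rw [Equiv.sum_comp ((x.right : Perm (Fin 8))⁻¹) (vec y)]

/-- Vectors of even weight. -/
def G0' : Subgroup G0 where
  carrier := {x | ∑ i, vec x i = 0}
  one_mem' := by simp [vec_one]
  mul_mem' := fun {a b} ha hb => by
    show ∑ i, vec (a * b) i = 0
    rw [sum_mul, show ∑ i, vec a i = 0 from ha, show ∑ i, vec b i = 0 from hb, add_zero]
  inv_mem' := fun {a} ha => by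
    have h := sum_mul a a⁻¹
    rw [mul_inv_cancel, vec_one, show ∑ i, vec a i = 0 from ha, zero_add] at h
    simpa using h.symm

/-- The all-one vector. -/
def cc : G0' := ⟨⟨Multiplicative.ofAdd fun _ => 1, 1⟩, by show ∑ _i : Fin 8, (1 : ZMod 2) = 0; decide⟩

theorem cc_central (x : G0') : x * cc = cc * x := by
  refine Subtype.ext (ext' ?_ ?_)
  · funext i
    show vec ((x : G0) * (cc : G0)) i = vec ((cc : G0) * x) i
    rw [vec_mul, vec_mul]
    show vec (x : G0) i + (1 : ZMod 2) = 1 + vec (x : G0) i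
    exact add_comm _ _
  · show (x : G0).right * 1 = 1 * (x : G0).right
    rw [mul_one, one_mul]

/-- The kernel of the reduction. -/
def Z : Subgroup G0' := Subgroup.zpowers cc

instance : Z.Normal := ⟨fun n hn g => by
  obtain ⟨k, rfl⟩ := Subgroup.mem_zpowers_iff.mp hn
  rw [(Commute.zpow_right (cc_central g) k).eq, mul_inv_cancel_right]
  exact zpow_mem (Subgroup.mem_zpowers cc) k⟩

/-- The group `2⁶:A₈`. -/
abbrev G1 : Type := G0' ⧸ Z

theorem mem_Z {x : G0'} : x ∈ Z ↔ (x : G0).right = 1 ∧ ((∀ i, vec (x : G0) i = 0) ∨ ∀ i, vec (x : G0) i = 1) := by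
  have hcc : cc * cc = 1 := Subtype.ext (ext' (by funext i; show (1 : ZMod 2) + 1 = 0; decide) (by show (1 : alternatingGroup (Fin 8)) * 1 = 1; simp))
  constructor
  · intro hx
    obtain ⟨k, rfl⟩ := Subgroup.mem_zpowers_iff.mp hx
    rcases Int.even_or_odd k with ⟨m, rfl⟩ | ⟨m, rfl⟩
    · rw [← two_mul, zpow_mul, zpow_two, hcc, one_zpow]
      exact ⟨rfl, Or.inl fun i => rfl⟩
    · rw [zpow_add, zpow_mul, zpow_two, hcc, one_zpow, one_mul, zpow_one]
      exact ⟨rfl, Or.inr fun i => rfl⟩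
  · rintro ⟨hr, h | h⟩
    · have : x = 1 := Subtype.ext (ext' (funext h) hr)
      rw [this]; exact one_mem _
    · have : x = cc := Subtype.ext (ext' (funext h) hr)
      rw [this]; exact Subgroup.mem_zpowers cc

theorem pow_spec (x : G0) : ∀ k : ℕ, (x ^ k).right = x.right ^ k ∧
    ∀ i, vec (x ^ k) i = ∑ j ∈ Finset.range k, vec x (((x.right : Perm (Fin 8))⁻¹ ^ j) i) := by
  intro k
  induction k with
  | zero => exact ⟨rfl, fun i => by simp [vec_one]⟩
  | succ k ih =>
    refine ⟨by rw [pow_succ x, SemidirectProduct.mul_right, ih.1, pow_succ], fun i => ?_⟩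
    rw [pow_succ x, vec_mul, ih.2, ih.1, Finset.sum_range_succ, SubgroupClass.coe_pow, inv_pow]

theorem sq_mem {x : G0'} (h : (x : G0).right = 1) : x * x = 1 := by
  refine Subtype.ext (ext' ?_ ?_)
  · funext i
    show vec ((x : G0) * x) i = 0
    rw [vec_mul, h]
    show vec (x : G0) i + vec (x : G0) i = 0
    exact CharTwo.add_self_eq_zero _
  · show (x : G0).right * (x : G0).right = 1
    rw [h, one_mul]

/-- A seven-cycle. -/
def f7 : Fin 8 → Fin 8 := ![1, 2, 3, 4, 5, 6, 0, 7]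

/-- An element of order fifteen. -/
def f15 : Fin 8 → Fin 8 := ![1, 2, 3, 4, 0, 6, 7, 5]

theorem orbit7 : ∀ v : M, ∑ i, v i = 0 → ∀ i,
    ∑ j ∈ Finset.range 7, v (f7^[j] i) = ∑ j ∈ Finset.range 7, v (f7^[j] 0) := by decide +kernel

theorem orbit15 : ∀ v : M, ∑ i, v i = 0 → ∀ i,
    ∑ j ∈ Finset.range 15, v (f15^[j] i) = ∑ j ∈ Finset.range 15, v (f15^[j] 0) := by decide +kernel

theorem const_sum {k : ℕ} (σ : Perm (Fin 8)) (τ₀ : Perm (Fin 8)) (hct : σ.cycleType = τ₀.cycleType)
    (hchk : ∀ v : M, ∑ i, v i = 0 → ∀ i,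
      ∑ j ∈ Finset.range k, v ((⇑τ₀)^[j] i) = ∑ j ∈ Finset.range k, v ((⇑τ₀)^[j] 0))
    (v : M) (hv : ∑ i, v i = 0) (i i' : Fin 8) :
    ∑ j ∈ Finset.range k, v ((σ ^ j) i) = ∑ j ∈ Finset.range k, v ((σ ^ j) i') := by
  obtain ⟨τ, hτ⟩ := isConj_iff.mp (Perm.isConj_iff_cycleType_eq.mpr hct.symm)
  have hσ : ∀ (j : ℕ) (i : Fin 8), (σ ^ j) i = τ ((⇑τ₀)^[j] (τ⁻¹ i)) := fun j i => by
    rw [← hτ, conj_pow, Perm.mul_apply, Perm.mul_apply, Perm.coe_pow]
  simp only [hσ]
  have hv' : ∑ i, (fun i => v (τ i)) i = 0 := by rw [Equiv.sum_comp τ v]; exact hv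
  rw [hchk _ hv' (τ⁻¹ i), hchk _ hv' (τ⁻¹ i')]

theorem parts {m : Multiset ℕ} {n : ℕ} (h2 : ∀ a ∈ m, 2 ≤ a) (hsum : m.sum ≤ 8) (hl : m.lcm = n) :
    (n = 7 → m = {7}) ∧ (n = 15 → m = {3, 5}) := by
  have hdiv : ∀ a ∈ m, a ∣ n ∧ a ≤ 8 := fun a ha =>
    ⟨hl ▸ Multiset.dvd_lcm ha, le_trans (Multiset.le_sum_of_mem ha) hsum⟩
  constructor
  · rintro rfl
    have hall : ∀ a ∈ m, a = 7 := fun a ha => by
      obtain ⟨h1, h3⟩ := hdiv a ha
      have := h2 a ha
      rcases (Nat.dvd_prime (by norm_num)).mp h1 with h | h <;> omega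
    rw [Multiset.eq_replicate_card.mpr hall] at hsum hl ⊢
    rw [Multiset.sum_replicate, smul_eq_mul] at hsum
    rcases hc : Multiset.card m with _ | _ | c
    · rw [hc] at hl; simp at hl
    · rfl
    · omega
  · rintro rfl
    have hall : ∀ a ∈ m, a = 3 ∨ a = 5 := fun a ha => by
      obtain ⟨h1, h3⟩ := hdiv a ha
      have := h2 a ha
      interval_cases a <;> omega
    have hm : m = Multiset.replicate (m.count 3) 3 + Multiset.replicate (m.count 5) 5 := by
      refine Multiset.ext.mpr fun a => ?_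
      rw [Multiset.count_add, Multiset.count_replicate, Multiset.count_replicate]
      by_cases h3 : a = 3
      · subst h3; simp
      by_cases h5 : a = 5
      · subst h5; simp
      rw [if_neg (Ne.symm h3), if_neg (Ne.symm h5), Multiset.count_eq_zero.mpr fun ha => ?_]
      rcases hall a ha with h | h <;> contradiction
    have h3 : 0 < m.count 3 := by
      rw [Multiset.count_pos]
      by_contra h
      have : m.lcm ∣ 5 := Multiset.lcm_dvd.mpr fun a ha => by
        rcases hall a ha with rfl | rfl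
        · exact absurd ha h
        · exact dvd_refl 5
      rw [hl] at this
      omega
    have h5 : 0 < m.count 5 := by
      rw [Multiset.count_pos]
      by_contra h
      have : m.lcm ∣ 3 := Multiset.lcm_dvd.mpr fun a ha => by
        rcases hall a ha with rfl | rfl
        · exact dvd_refl 3
        · exact absurd ha h
      rw [hl] at this
      omega
    rw [hm] at hsum
    rw [Multiset.sum_add, Multiset.sum_replicate, Multiset.sum_replicate, smul_eq_mul, smul_eq_mul] at hsum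
    rw [hm, show m.count 3 = 1 by omega, show m.count 5 = 1 by omega]
    rfl

/-- The seven-cycle as a permutation. -/
def t7 : Perm (Fin 8) := List.formPerm [0, 1, 2, 3, 4, 5, 6]

/-- The permutation of order fifteen. -/
def t15 : Perm (Fin 8) := List.formPerm [0, 1, 2, 3, 4] * List.formPerm [5, 6, 7]

theorem t7_eq : ⇑t7 = f7 := by decide +kernel

theorem t15_eq : ⇑t15 = f15 := by decide +kernel

theorem t7_order : orderOf t7 = 7 := (orderOf_eq_iff (by decide)).2 ⟨by decide +kernel, by decide +kernel⟩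

theorem t15_order : orderOf t15 = 15 := (orderOf_eq_iff (by decide)).2 ⟨by decide +kernel, by decide +kernel⟩

theorem type_bound (σ : Perm (Fin 8)) : σ.cycleType.sum ≤ 8 := by
  rw [Perm.sum_cycleType]; exact le_of_le_of_eq (Finset.card_le_univ _) (Fintype.card_fin 8)

theorem alt_data : ∀ q ∈ cycleData 8 8, q.2 = 0 → q.1 ∈ ({1, 2, 3, 4, 5, 6, 7, 15} : Finset ℕ) := by
  decide +kernel

theorem pow_mem_Z {x : G0'} {k : ℕ} (hk : orderOf ((x : G0).right) = k) (h : k = 7 ∨ k = 15) : x ^ k ∈ Z := by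
  obtain ⟨hr, hv⟩ := pow_spec (x : G0) k
  refine mem_Z.mpr ⟨?_, ?_⟩
  · rw [SubmonoidClass.coe_pow, hr, ← hk]; exact pow_orderOf_eq_one _
  · have hconst : ∀ i i', vec ((x : G0) ^ k) i = vec ((x : G0) ^ k) i' := by
      intro i i'
      rw [hv, hv]
      set σ : Perm (Fin 8) := ((x : G0).right : Perm (Fin 8))⁻¹
      have hσ : orderOf σ = k := by rw [orderOf_inv, Subgroup.orderOf_coe, hk]
      have hl : σ.cycleType.lcm = k := by rw [Perm.lcm_cycleType, hσ]
      have hp := parts (fun a ha => Perm.two_le_of_mem_cycleType ha) (type_bound σ) hl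
      rcases h with rfl | rfl
      · refine const_sum σ t7 ?_ (by rw [t7_eq]; exact orbit7) _ x.2 i i'
        rw [hp.1 rfl, (parts (fun a ha => Perm.two_le_of_mem_cycleType ha) (type_bound t7)
          (by rw [Perm.lcm_cycleType, t7_order])).1 rfl]
      · refine const_sum σ t15 ?_ (by rw [t15_eq]; exact orbit15) _ x.2 i i'
        rw [hp.2 rfl, (parts (fun a ha => Perm.two_le_of_mem_cycleType ha) (type_bound t15)
          (by rw [Perm.lcm_cycleType, t15_order])).2 rfl]
    rw [SubmonoidClass.coe_pow]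
    have h2 : ∀ a : ZMod 2, a = 0 ∨ a = 1 := by decide
    rcases h2 (vec ((x : G0) ^ k) 0) with h0 | h0
    · exact Or.inl fun i => (hconst i 0).trans h0
    · exact Or.inr fun i => (hconst i 0).trans h0

theorem upper (g : G1) : ∃ m ∈ ([7, 8, 10, 12, 15] : List ℕ), orderOf g ∣ m := by
  obtain ⟨x, rfl⟩ := QuotientGroup.mk_surjective g
  set k := orderOf ((x : G0).right) with hk
  have hk' := orderOf_mem_of_cycleData _ alt_data (x : G0).right
  rw [← hk] at hk'
  have h2 : orderOf (QuotientGroup.mk x : G1) ∣ 2 * k := by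
    refine orderOf_dvd_of_pow_eq_one ?_
    rw [← QuotientGroup.mk_pow, mul_comm, pow_mul, pow_two, sq_mem (x := x ^ k) ?_, QuotientGroup.mk_one]
    rw [SubmonoidClass.coe_pow, (pow_spec (x : G0) k).1, hk]
    exact pow_orderOf_eq_one _
  simp only [Finset.mem_insert, Finset.mem_singleton] at hk'
  by_cases h : k = 7 ∨ k = 15
  · refine ⟨k, by rcases h with h | h <;> simp [h], orderOf_dvd_of_pow_eq_one ?_⟩
    rw [← QuotientGroup.mk_pow]
    exact (QuotientGroup.eq_one_iff _).mpr (pow_mem_Z hk.symm h)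
  push Not at h
  rcases hk' with h' | h' | h' | h' | h' | h' | h' | h' <;> rw [h'] at h2
  · exact ⟨8, by simp, h2.trans (by norm_num)⟩
  · exact ⟨8, by simp, h2.trans (by norm_num)⟩
  · exact ⟨12, by simp, h2.trans (by norm_num)⟩
  · exact ⟨8, by simp, h2⟩
  · exact ⟨10, by simp, h2⟩
  · exact ⟨12, by simp, h2⟩
  · exact absurd h' h.1
  · exact absurd h' h.2

/-- An element from its two parts. -/
def mk (v : M) (σ : alternatingGroup (Fin 8)) (h : ∑ i, v i = 0) : G0' := ⟨⟨Multiplicative.ofAdd v, σ⟩, h⟩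

theorem not_mem {x : G0'} {m : ℕ} (v : M) (p : Perm (Fin 8)) (hv : vec (x : G0) = v)
    (hp : ((x : G0).right : Perm (Fin 8)) = p)
    (h : p ^ m ≠ 1 ∨ (¬ (∀ i, ∑ j ∈ Finset.range m, v ((p⁻¹ ^ j) i) = 0) ∧
      ¬ ∀ i, ∑ j ∈ Finset.range m, v ((p⁻¹ ^ j) i) = 1)) :
    (QuotientGroup.mk x : G1) ^ m ≠ 1 := by
  rw [← QuotientGroup.mk_pow, Ne, QuotientGroup.eq_one_iff, mem_Z, SubmonoidClass.coe_pow]
  obtain ⟨hr, hs⟩ := pow_spec (x : G0) m
  rw [hr]
  simp only [hs, hv, hp]
  rintro ⟨h1, h2⟩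
  rcases h with h | ⟨ha, hb⟩
  · exact h (by rw [← hp, ← SubgroupClass.coe_pow, h1, OneMemClass.coe_one])
  · exact h2.elim ha hb

theorem order_wit {x : G0'} {n : ℕ} (hn : 0 < n) (h1 : orderOf (QuotientGroup.mk x : G1) ∣ n)
    (h2 : ∀ p, p.Prime → p ∣ n → (QuotientGroup.mk x : G1) ^ (n / p) ≠ 1) :
    orderOf (QuotientGroup.mk x : G1) = n :=
  orderOf_eq_of_pow_and_pow_div_prime hn (orderOf_dvd_iff_pow_eq_one.mp h1) h2

theorem dvd_two_mul {x : G0'} {p : Perm (Fin 8)} {k : ℕ} (hp : ((x : G0).right : Perm (Fin 8)) = p) (hk : p ^ k = 1) :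
    orderOf (QuotientGroup.mk x : G1) ∣ 2 * k := by
  refine orderOf_dvd_of_pow_eq_one ?_
  rw [← QuotientGroup.mk_pow, mul_comm, pow_mul, pow_two, sq_mem (x := x ^ k) ?_, QuotientGroup.mk_one]
  rw [SubmonoidClass.coe_pow, (pow_spec (x : G0) k).1]
  exact Subtype.ext (by rw [SubgroupClass.coe_pow, hp, hk]; rfl)

theorem lower : ∀ m ∈ ([7, 8, 10, 12, 15] : List ℕ), ∃ g : G1, orderOf g = m := by
  intro m hm
  simp only [List.mem_cons, List.not_mem_nil, or_false] at hm
  rcases hm with rfl | rfl | rfl | rfl | rfl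
  · let x := mk 0 ⟨t7, by rw [Perm.mem_alternatingGroup]; decide +kernel⟩ (by simp)
    refine ⟨QuotientGroup.mk x, order_wit (by norm_num) (orderOf_dvd_of_pow_eq_one ?_) fun p hp hd => ?_⟩
    · rw [← QuotientGroup.mk_pow]
      refine (QuotientGroup.eq_one_iff _).mpr (pow_mem_Z ?_ (Or.inl rfl))
      rw [← Subgroup.orderOf_coe]; exact t7_order
    · obtain rfl := (Nat.prime_dvd_prime_iff_eq hp (by norm_num)).mp hd
      exact not_mem 0 t7 rfl rfl (Or.inl (by decide +kernel))
  · let p₀ : Perm (Fin 8) := List.formPerm [0, 1, 2, 3] * List.formPerm [4, 5]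
    let v : M := ![1, 0, 0, 0, 0, 0, 1, 0]
    let x := mk v ⟨p₀, by rw [Perm.mem_alternatingGroup]; decide +kernel⟩ (by decide +kernel)
    refine ⟨QuotientGroup.mk x, order_wit (by norm_num) (dvd_two_mul (k := 4) (p := p₀) rfl (by decide +kernel))
      fun p hp hd => ?_⟩
    obtain rfl := (Nat.prime_dvd_prime_iff_eq hp Nat.prime_two).mp (hp.dvd_of_dvd_pow (n := 3) hd)
    exact not_mem v p₀ rfl rfl (Or.inr (by decide +kernel))
  · let p₀ : Perm (Fin 8) := List.formPerm [0, 1, 2, 3, 4]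
    let v : M := ![0, 0, 0, 0, 0, 1, 1, 0]
    let x := mk v ⟨p₀, by rw [Perm.mem_alternatingGroup]; decide +kernel⟩ (by decide +kernel)
    refine ⟨QuotientGroup.mk x, order_wit (by norm_num) (dvd_two_mul (k := 5) (p := p₀) rfl (by decide +kernel))
      fun p hp hd => ?_⟩
    rcases hp.dvd_mul.mp (show p ∣ 2 * 5 from hd) with h | h
    · obtain rfl := (Nat.prime_dvd_prime_iff_eq hp Nat.prime_two).mp h
      exact not_mem v p₀ rfl rfl (Or.inr (by decide +kernel))
    · obtain rfl := (Nat.prime_dvd_prime_iff_eq hp (by norm_num)).mp h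
      exact not_mem v p₀ rfl rfl (Or.inl (by decide +kernel))
  · let p₀ : Perm (Fin 8) := List.formPerm [0, 1, 2] * List.formPerm [3, 4] * List.formPerm [5, 6]
    let v : M := ![1, 0, 0, 1, 0, 0, 0, 0]
    let x := mk v ⟨p₀, by rw [Perm.mem_alternatingGroup]; decide +kernel⟩ (by decide +kernel)
    refine ⟨QuotientGroup.mk x, order_wit (by norm_num) (dvd_two_mul (k := 6) (p := p₀) rfl (by decide +kernel))
      fun p hp hd => ?_⟩
    rcases hp.dvd_mul.mp (show p ∣ 2 ^ 2 * 3 from hd) with h | h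
    · obtain rfl := (Nat.prime_dvd_prime_iff_eq hp Nat.prime_two).mp (hp.dvd_of_dvd_pow h)
      exact not_mem v p₀ rfl rfl (Or.inr (by decide +kernel))
    · obtain rfl := (Nat.prime_dvd_prime_iff_eq hp (by norm_num)).mp h
      exact not_mem v p₀ rfl rfl (Or.inl (by decide +kernel))
  · let x := mk 0 ⟨t15, by rw [Perm.mem_alternatingGroup]; decide +kernel⟩ (by simp)
    refine ⟨QuotientGroup.mk x, order_wit (by norm_num) (orderOf_dvd_of_pow_eq_one ?_) fun p hp hd => ?_⟩
    · rw [← QuotientGroup.mk_pow]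
      refine (QuotientGroup.eq_one_iff _).mpr (pow_mem_Z ?_ (Or.inr rfl))
      rw [← Subgroup.orderOf_coe]; exact t15_order
    · rcases hp.dvd_mul.mp (show p ∣ 3 * 5 from hd) with h | h
      · obtain rfl := (Nat.prime_dvd_prime_iff_eq hp (by norm_num)).mp h
        exact not_mem 0 t15 rfl rfl (Or.inl (by decide +kernel))
      · obtain rfl := (Nat.prime_dvd_prime_iff_eq hp (by norm_num)).mp h
        exact not_mem 0 t15 rfl rfl (Or.inl (by decide +kernel))

theorem exists_large (N : ℕ) : ∃ (H : Type) (_ : Group H) (_ : Fintype H), N < Fintype.card H ∧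
    Set.range (orderOf : H → ℕ) = {k | ∃ m ∈ ([7, 8, 10, 12, 15] : List ℕ), k ∣ m} := by
  haveI : Finite G0 := Finite.of_equiv _ SemidirectProduct.equivProd.symm
  let π : G1 →* alternatingGroup (Fin 8) :=
    QuotientGroup.lift Z ((SemidirectProduct.rightHom).comp G0'.subtype) fun z hz =>
      MonoidHom.mem_ker.mpr (mem_Z.mp hz).1
  have hexp : ∀ g : π.ker, g ^ 2 = 1 := by
    rintro ⟨g, hg⟩
    obtain ⟨x, rfl⟩ := QuotientGroup.mk_surjective g
    refine Subtype.ext ?_
    show (QuotientGroup.mk x : G1) ^ 2 = 1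
    rw [← QuotientGroup.mk_pow, pow_two, sq_mem (x := x) hg, QuotientGroup.mk_one]
  have hne : π.ker ≠ ⊥ := by
    intro h
    let v : M := ![1, 1, 0, 0, 0, 0, 0, 0]
    have hm : (QuotientGroup.mk (mk v 1 (by decide +kernel)) : G1) ∈ π.ker := MonoidHom.mem_ker.mpr rfl
    rw [h, Subgroup.mem_bot, QuotientGroup.eq_one_iff, mem_Z] at hm
    rcases hm.2 with h' | h'
    · exact absurd (h' 0) (by decide +kernel)
    · exact absurd (h' 2) (by decide +kernel)
  obtain ⟨H, hg, hf, h1, h2⟩ := exists_large_isospectral π.ker hne Nat.prime_two hexp N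
  exact ⟨H, hg, hf, h1, h2.trans (range_orderOf_eq _ upper lower (by decide))⟩

end CfsgLib.SpecBlow.S8
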