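import Cfsg.Agent.SpecBlow.Basic
import Cfsg.Agent.SpecBlow.AltSpectrum
import Mathlib.LinearAlgebra.Matrix.SpecialLinearGroup
import Mathlib.LinearAlgebra.Matrix.Determinant.Basic
import Mathlib.FieldTheory.Finite.GaloisField

/-! The affine special linear group of the plane over the field with four elements. -/

set_option autoImplicit false

namespace CfsgLib.SpecBlow.A6

open Matrix

variable (F : Type*) [Field F]

/-- The matrices with last row `(0, 0, 1)`. -/
abbrev AG : Subgroup (SpecialLinearGroup (Fin 3) F) :=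
  Subgroup.closure {M : SpecialLinearGroup (Fin 3) F |
    (M : Matrix (Fin 3) (Fin 3) F) 2 0 = 0 ∧ (M : Matrix (Fin 3) (Fin 3) F) 2 1 = 0 ∧
      (M : Matrix (Fin 3) (Fin 3) F) 2 2 = 1}

variable {F}

theorem row_mul {x y : SpecialLinearGroup (Fin 3) F}
    (hx : ∀ j, (x : Matrix (Fin 3) (Fin 3) F) 2 j = (1 : Matrix (Fin 3) (Fin 3) F) 2 j) (j : Fin 3) :
    ((x * y : SpecialLinearGroup (Fin 3) F) : Matrix (Fin 3) (Fin 3) F) 2 j =
      (y : Matrix (Fin 3) (Fin 3) F) 2 j := by
  simp [Matrix.mul_apply, hx, Fin.sum_univ_three]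

theorem row_of_mem {x : SpecialLinearGroup (Fin 3) F} (h : x ∈ AG F) :
    ∀ j, (x : Matrix (Fin 3) (Fin 3) F) 2 j = (1 : Matrix (Fin 3) (Fin 3) F) 2 j := by
  induction h using Subgroup.closure_induction with
  | mem x hx =>
    intro j
    fin_cases j
    · simpa using hx.1
    · simpa using hx.2.1
    · simp only [Fin.isValue, Matrix.one_apply]
      simpa using hx.2.2
  | one => intro j; simp
  | mul x y _ _ hx hy => intro j; rw [row_mul hx, hy]
  | inv x _ hx =>
    intro j
    rw [← row_mul (y := x⁻¹) hx, mul_inv_cancel]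
    simp

theorem cubic {x : SpecialLinearGroup (Fin 3) F} (h : x ∈ AG F) (t : F)
    (ht : t = (x : Matrix (Fin 3) (Fin 3) F) 0 0 + (x : Matrix (Fin 3) (Fin 3) F) 1 1) :
    let M := (x : Matrix (Fin 3) (Fin 3) F)
    (M - 1) * (M * M - t • M + 1) = 0 := by
  intro M
  have hr := row_of_mem h
  have r0 : M 2 0 = 0 := by simpa using hr 0
  have r1 : M 2 1 = 0 := by simpa using hr 1
  have r2 : M 2 2 = 1 := by simpa using hr 2
  have hd : M.det = 1 := x.2
  rw [Matrix.det_fin_three, r0, r1, r2] at hd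
  ext i j
  fin_cases i <;> fin_cases j <;>
    simp [Matrix.mul_apply, Fin.sum_univ_three, r0, r1, r2, ht, M] <;> grind

variable [Fintype F] (hF : Fintype.card F = 4)

include hF

theorem charP_two : CharP F 2 := by
  obtain ⟨p, hp⟩ := CharP.exists F
  obtain ⟨n, hprime, hn⟩ := FiniteField.card F p
  rw [hF] at hn
  have h2 : p ∣ 2 ^ 2 := by
    rw [show (2 : ℕ) ^ 2 = p ^ (n : ℕ) by rw [← hn]; norm_num]
    exact dvd_pow_self p n.pos.ne'
  have := (Nat.prime_dvd_prime_iff_eq hprime Nat.prime_two).1 (hprime.dvd_of_dvd_pow h2)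
  rwa [this] at hp

theorem trace_cases (t : F) : t = 0 ∨ t = 1 ∨ t * t + t + 1 = 0 := by
  have h := FiniteField.pow_card t
  rw [hF] at h
  have : t * ((t - 1) * (t * t + t + 1)) = 0 := by linear_combination h
  rcases mul_eq_zero.1 this with h | h
  · exact Or.inl h
  rcases mul_eq_zero.1 h with h | h
  · exact Or.inr (Or.inl (sub_eq_zero.1 h))
  · exact Or.inr (Or.inr h)

theorem orderOf_mem (x : AG F) : orderOf x ∈ ({1, 2, 3, 4, 5} : Finset ℕ) := by
  have := charP_two hF
  set M := ((x : SpecialLinearGroup (Fin 3) F) : Matrix (Fin 3) (Fin 3) F) with hM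
  obtain ⟨t, ht⟩ : ∃ t, t = M 0 0 + M 1 1 := ⟨_, rfl⟩
  have hc : (M - 1) * (M * M - t • M + 1) = 0 := cubic x.2 t ht
  have hlift : ∀ n : ℕ, M ^ n = 1 → orderOf x ∣ n := fun n hn => by
    refine orderOf_dvd_of_pow_eq_one (Subtype.ext (Subtype.ext ?_))
    simpa [hM] using hn
  have key : ∀ n : ℕ, n ≠ 0 → M ^ n = 1 →
      (∀ d ∈ Nat.divisors n, d ∈ ({1, 2, 3, 4, 5} : Finset ℕ)) →
      orderOf x ∈ ({1, 2, 3, 4, 5} : Finset ℕ) :=
    fun n h0 hn h => h _ (Nat.mem_divisors.2 ⟨hlift n hn, h0⟩)
  have two : (2 : Matrix (Fin 3) (Fin 3) F) = 0 := CharTwo.two_eq_zero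
  rcases trace_cases hF t with h | h | h
  · refine key 4 (by decide) ?_ (by decide)
    rw [h, zero_smul, sub_zero] at hc
    have e : M ^ 4 - 1 = (M + 1) * ((M - 1) * (M * M + 1)) := by noncomm_ring
    rwa [hc, mul_zero, sub_eq_zero] at e
  · refine key 3 (by decide) ?_ (by decide)
    rw [h, one_smul] at hc
    have e : M ^ 3 - 1 = (M - 1) * (M * M - M + 1) + 2 * ((M - 1) * M) := by noncomm_ring
    rw [hc, two, zero_mul, add_zero, sub_eq_zero] at e
    exact e
  · refine key 5 (by decide) ?_ (by decide)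
    have e : M ^ 5 - 1 = (M - 1) * (M * M - t • M + 1) * (M * M + (t + 1) • M + 1) := by
      have h2 : (2 : F) = 0 := CharTwo.two_eq_zero
      have hs : t * (t + 1) = 1 := by linear_combination h - h2
      have hp : (Polynomial.X ^ 5 - 1 : Polynomial F) = (Polynomial.X - 1) *
          (Polynomial.X * Polynomial.X - Polynomial.C t * Polynomial.X + 1) *
          (Polynomial.X * Polynomial.X + Polynomial.C (t + 1) * Polynomial.X + 1) := by
        have hC : Polynomial.C t * Polynomial.C (t + 1) = (1 : Polynomial F) := by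
          rw [← map_mul, hs, map_one]
        rw [map_add, map_one] at hC ⊢
        linear_combination ((Polynomial.X - 1) * Polynomial.X ^ 2 : Polynomial F) * hC
      have hq := congrArg (Polynomial.aeval M) hp
      simpa [Algebra.smul_def] using hq
    rwa [hc, zero_mul, sub_eq_zero] at e

omit [Fintype F] hF in
theorem pow_eq_one {x : AG F} {n : ℕ}
    (h : ((x : SpecialLinearGroup (Fin 3) F) : Matrix (Fin 3) (Fin 3) F) ^ n = 1) : x ^ n = 1 :=
  Subtype.ext (Subtype.ext (by simpa using h))

omit [Fintype F] hF in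
theorem coe_pow' (x : AG F) (n : ℕ) :
    (((x ^ n : AG F) : SpecialLinearGroup (Fin 3) F) : Matrix (Fin 3) (Fin 3) F) =
      ((x : SpecialLinearGroup (Fin 3) F) : Matrix (Fin 3) (Fin 3) F) ^ n := by simp

omit [Fintype F] hF in
/-- An element of the group from a matrix with determinant one and last row `(0, 0, 1)`. -/
def mk (a b c d u v : F) (h : a * d - b * c = 1) : AG F :=
  ⟨⟨!![a, b, u; c, d, v; 0, 0, 1], by rw [Matrix.det_fin_three]; simpa using h⟩,
    Subgroup.subset_closure ⟨rfl, rfl, rfl⟩⟩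

omit [Fintype F] hF in
theorem ne_one {x : AG F} (i j : Fin 3)
    (h : ((x : SpecialLinearGroup (Fin 3) F) : Matrix (Fin 3) (Fin 3) F) i j ≠
      (1 : Matrix (Fin 3) (Fin 3) F) i j) : x ≠ 1 := fun he => h (by rw [he]; rfl)

theorem exists_orderOf (k : ℕ) (hk : k ∈ ({1, 2, 3, 4, 5} : Finset ℕ)) :
    ∃ x : AG F, orderOf x = k := by
  have := charP_two hF
  have two : (2 : F) = 0 := CharTwo.two_eq_zero
  obtain ⟨w, hw⟩ : ∃ w : F, w * w + w + 1 = 0 := by
    by_contra hne
    push Not at hne
    classical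
    have hsub : (Finset.univ : Finset F) ⊆ {0, 1} := fun t _ => by
      rcases trace_cases hF t with h | h | h
      · simp [h]
      · simp [h]
      · exact absurd h (hne t)
    have := (Finset.card_le_card hsub).trans Finset.card_le_two
    rw [Finset.card_univ, hF] at this
    omega
  simp only [Finset.mem_insert, Finset.mem_singleton] at hk
  rcases hk with rfl | rfl | rfl | rfl | rfl
  · exact ⟨1, orderOf_one⟩
  · refine ⟨mk 1 0 0 1 1 0 (by ring), ?_⟩
    have : Fact (Nat.Prime 2) := ⟨by norm_num⟩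
    refine orderOf_eq_prime (pow_eq_one ?_) (ne_one 0 2 ?_)
    · ext i j; fin_cases i <;> fin_cases j <;>
        simp [mk, pow_succ, Matrix.mul_apply, Fin.sum_univ_three] <;> grind
    · simp [mk]
  · refine ⟨mk 0 1 1 1 0 0 (by linear_combination -two), ?_⟩
    have : Fact (Nat.Prime 3) := ⟨by norm_num⟩
    refine orderOf_eq_prime (pow_eq_one ?_) (ne_one 0 1 ?_)
    · ext i j; fin_cases i <;> fin_cases j <;>
        simp [mk, pow_succ, Matrix.mul_apply, Fin.sum_univ_three] <;> grind
    · simp [mk]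
  · refine ⟨mk 1 1 0 1 0 1 (by ring), ?_⟩
    have : Fact (Nat.Prime 2) := ⟨by norm_num⟩
    refine orderOf_eq_prime_pow (p := 2) (n := 1) ?_ (pow_eq_one ?_)
    · intro he
      have h2 := (coe_pow' _ _).symm.trans (congrArg
        (fun z : AG F => ((z : SpecialLinearGroup (Fin 3) F) : Matrix (Fin 3) (Fin 3) F)) he)
      have h3 := congrFun (congrFun h2 0) 2
      simp [mk, pow_succ, Matrix.mul_apply, Fin.sum_univ_three] at h3
    · ext i j; fin_cases i <;> fin_cases j <;>
        simp [mk, pow_succ, Matrix.mul_apply, Fin.sum_univ_three] <;> grind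
  · refine ⟨mk 0 1 1 w 0 0 (by linear_combination -two), ?_⟩
    have : Fact (Nat.Prime 5) := ⟨by norm_num⟩
    refine orderOf_eq_prime (pow_eq_one ?_) (ne_one 0 1 ?_)
    · ext i j; fin_cases i <;> fin_cases j <;>
        simp [mk, pow_succ, Matrix.mul_apply, Fin.sum_univ_three] <;> grind
    · simp [mk]

theorem range_orderOf : Set.range (orderOf : AG F → ℕ) =
    Set.range (orderOf : alternatingGroup (Fin 6) → ℕ) := by
  rw [range_orderOf_alternating_six]
  ext k
  refine ⟨?_, fun hk => exists_orderOf hF k hk⟩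
  rintro ⟨x, rfl⟩
  exact orderOf_mem hF x

omit [Fintype F] hF in
variable (F) in
/-- The linear part. -/
def lin : AG F →* Matrix (Fin 2) (Fin 2) F where
  toFun x := ((x : SpecialLinearGroup (Fin 3) F) : Matrix (Fin 3) (Fin 3) F).submatrix
    Fin.castSucc Fin.castSucc
  map_one' := by ext i j; fin_cases i <;> fin_cases j <;> simp
  map_mul' x y := by
    have hy := row_of_mem y.2
    ext i j
    fin_cases j <;>
      simp [Matrix.mul_apply, Fin.sum_univ_three, Fin.sum_univ_two, hy]

omit [Fintype F] hF in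
variable (F) in
/-- The translations. -/
def V : Subgroup (AG F) := (lin F).ker

omit [Fintype F] hF in
theorem V_normal : (V F).Normal := MonoidHom.normal_ker _

theorem exists_large (k : ℕ) : ∃ (H : Type) (_ : Group H) (_ : Fintype H), k < Fintype.card H ∧
    Set.range (orderOf : H → ℕ) = Set.range (orderOf : alternatingGroup (Fin 6) → ℕ) := by
  classical
  have := V_normal (F := F)
  have := charP_two hF
  rw [← range_orderOf hF]
  refine exists_large_isospectral (V F) ?_ Nat.prime_two (fun x => ?_) k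
  · intro h
    have hmem : mk (F := F) 1 0 0 1 1 0 (by ring) ∈ V F := by
      refine MonoidHom.mem_ker.2 ?_
      ext i j; fin_cases i <;> fin_cases j <;> simp [lin, mk]
    rw [h, Subgroup.mem_bot] at hmem
    exact ne_one (F := F) 0 2 (by simp [mk]) hmem
  · refine Subtype.ext ?_
    rw [SubmonoidClass.coe_pow]
    refine pow_eq_one ?_
    have hr := row_of_mem x.1.2
    have h : lin F x.1 = 1 := MonoidHom.mem_ker.1 x.2
    have two : (2 : F) = 0 := CharTwo.two_eq_zero
    have a00 := congrFun (congrFun h 0) 0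
    have a01 := congrFun (congrFun h 0) 1
    have a10 := congrFun (congrFun h 1) 0
    have a11 := congrFun (congrFun h 1) 1
    have r0 := hr 0; have r1 := hr 1; have r2 := hr 2
    simp [lin, Matrix.one_apply] at a00 a01 a10 a11 r0 r1 r2
    ext i j
    fin_cases i <;> fin_cases j <;>
      simp [pow_two, Matrix.mul_apply, Fin.sum_univ_three, a00, a01, a10, a11, r0, r1, r2] <;>
      grind

end CfsgLib.SpecBlow.A6
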