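import Cfsg.Agent.SpecBlow.A10Check
import Cfsg.Agent.SpecBlow.Basic
import Cfsg.Agent.SpecBlow.AltSpectrum
import Mathlib.Data.ZMod.Basic
import Mathlib.Data.Matrix.Mul
import Mathlib.GroupTheory.SemidirectProduct

/-! A group with a normal subgroup of exponent 7 having the element orders of `A₁₀`. -/

set_option autoImplicit false

namespace CfsgLib.SpecBlow.A10

abbrev M := Matrix (Fin 4) (Fin 4) (ZMod 7)

/-- The matrix of a list. -/
def toMat (a : List Nat) : M := Matrix.of fun i j => (a.getD (4 * i.val + j.val) 0 : ZMod 7)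

theorem getD_map_range (f : ℕ → ℕ) {t : ℕ} (h : t < 16) :
    ((List.range 16).map f).getD t 0 = f t := by
  rw [List.getD_eq_getElem?_getD, List.getElem?_map, List.getElem?_range h]
  rfl

theorem toMat_mul (a b : List Nat) : toMat (mul a b) = toMat a * toMat b := by
  ext i j
  have hi := i.isLt
  have hj := j.isLt
  simp only [toMat, mul, Matrix.mul_apply, Matrix.of_apply, Fin.sum_univ_four]
  rw [getD_map_range _ (by omega)]
  rw [show (4 * i.val + j.val) / 4 = i.val by omega, show (4 * i.val + j.val) % 4 = j.val by omega]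
  simp [ZMod.natCast_mod]

theorem toMat_add (a b : List Nat) : toMat (add a b) = toMat a + toMat b := by
  ext i j
  have hi := i.isLt
  have hj := j.isLt
  simp only [toMat, add, Matrix.add_apply, Matrix.of_apply]
  rw [getD_map_range _ (by omega)]
  simp [ZMod.natCast_mod]

theorem toMat_one : toMat one = 1 := by decide +kernel

theorem toMat_neg : toMat neg = -1 := by decide +kernel

theorem toMat_zero : toMat zero = 0 := by decide +kernel

theorem toMat_pw (a : List Nat) (n : ℕ) : toMat (pw a n) = toMat a ^ n := by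
  induction n with
  | zero => simp [pw, toMat_one]
  | succ n ih => rw [pw, toMat_mul, ih, pow_succ]

theorem toMat_geom (a : List Nat) (n : ℕ) :
    toMat (geom a n) = ∑ i ∈ Finset.range n, toMat a ^ i := by
  induction n with
  | zero => simp [geom, toMat_zero]
  | succ n ih => rw [geom, toMat_add, ih, toMat_pw, Finset.sum_range_succ]

/-- The first generator as a unit. -/
def u0 : Mˣ := Units.ofPowEqOne (toMat g0) 4
  (by rw [← toMat_pw, ← toMat_one]; exact congrArg toMat (by decide +kernel)) (by decide)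

/-- The second generator as a unit. -/
def u1 : Mˣ := Units.ofPowEqOne (toMat g1) 12
  (by rw [← toMat_pw, ← toMat_one]; exact congrArg toMat (by decide +kernel)) (by decide)

theorem coe_u0 : (u0 : M) = toMat g0 := rfl

theorem coe_u1 : (u1 : M) = toMat g1 := rfl

/-- The complement. -/
def C : Subgroup Mˣ := Subgroup.closure {u0, u1}

theorem exists_list {c : Mˣ} (hc : c ∈ C) : ∃ a ∈ elems, toMat a = (c : M) := by
  induction hc using Subgroup.closure_induction_right with
  | one => exact ⟨one, one_mem, by rw [toMat_one]; rfl⟩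
  | mul_right x _ y hy ih => exact step ih hy
  | mul_inv_cancel x _ y hy ih =>
    obtain ⟨n, hn⟩ : ∃ n : ℕ, y⁻¹ = y ^ n := ⟨orderOf y - 1, by
      refine inv_eq_of_mul_eq_one_right ?_
      rw [← pow_succ', Nat.sub_add_cancel (orderOf_pos y)]
      exact pow_orderOf_eq_one y⟩
    rw [hn]
    clear hn
    induction n with
    | zero => simpa using ih
    | succ n ihn => rw [pow_succ, ← mul_assoc]; exact step ihn hy
where
  step {x y : Mˣ} (h : ∃ a ∈ elems, toMat a = (x : M)) (hy : y ∈ ({u0, u1} : Set Mˣ)) :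
      ∃ a ∈ elems, toMat a = ((x * y : Mˣ) : M) := by
    obtain ⟨a, ha, hax⟩ := h
    rcases hy with rfl | rfl
    · exact ⟨_, mul_g0_mem a ha, by rw [toMat_mul, hax, ← coe_u0, Units.val_mul]⟩
    · exact ⟨_, mul_g1_mem a ha, by rw [toMat_mul, hax, ← coe_u1, Units.val_mul]⟩

/-- The matrix of an element of the complement. -/
def mat : C →* M := (Units.coeHom M).comp C.subtype

theorem mat_injective : Function.Injective mat := fun _ _ h => Subtype.ext (Units.ext h)

/-- Classification of the complement's elements. -/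
theorem cases_C (c : C) : c = 1 ∨ (∑ i ∈ Finset.range 3, mat c ^ i) = 0 ∨
    (∑ i ∈ Finset.range 5, mat c ^ i) = 0 ∨ ∃ j ∈ Finset.Icc 1 6, mat c ^ j = -1 := by
  obtain ⟨a, ha, hac⟩ := exists_list c.2
  have hac : toMat a = mat c := hac
  have hg := good_of_mem a ha
  simp only [good, Bool.or_eq_true, beq_iff_eq, or_assoc] at hg
  have hp : ∀ j, pw a j = neg → mat c ^ j = -1 := fun j h => by
    rw [← hac, ← toMat_pw, h, toMat_neg]
  have hs : ∀ j, geom a j = zero → (∑ i ∈ Finset.range j, mat c ^ i) = 0 := fun j h => by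
    rw [← hac, ← toMat_geom, h, toMat_zero]
  rcases hg with h | h | h | h | h | h | h | h | h
  · left
    apply mat_injective
    rw [← hac, h, toMat_one, map_one]
  · exact Or.inr (Or.inl (hs _ h))
  · exact Or.inr (Or.inr (Or.inl (hs _ h)))
  all_goals exact Or.inr (Or.inr (Or.inr ⟨_, by decide, hp _ h⟩))

/-- The central involution. -/
def z : C := ⟨u0, Subgroup.subset_closure (Set.mem_insert _ _)⟩ ^ 2

theorem mat_z : mat z = -1 := by
  show ((u0 : M)) ^ 2 = -1
  rw [coe_u0, ← toMat_pw, ← toMat_neg]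
  exact congrArg toMat (by decide +kernel)

theorem z_comm (c : C) : z * c = c * z := mat_injective (by simp [mat_z])

/-- The second generator in the complement. -/
def b : C := ⟨u1, Subgroup.subset_closure (Set.mem_insert_of_mem _ rfl)⟩

/-- The first generator in the complement. -/
def a₀ : C := ⟨u0, Subgroup.subset_closure (Set.mem_insert _ _)⟩

/-- The kernel `F₇⁴ × V₃`. -/
def N : AddSubgroup ((Fin 4 → ZMod 7) × (C → ZMod 3)) where
  carrier := {p | ∀ x, p.2 (x * z) = - p.2 x}
  zero_mem' := fun x => by simp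
  add_mem' := fun {p q} hp hq x => by simp [hp x, hq x]; abel
  neg_mem' := fun {p} hp x => by simp [hp x]

/-- The action of the complement, as additive maps. -/
def act (c : C) (p : N) : N :=
  ⟨((mat c).mulVec p.1.1, fun x => p.1.2 (c⁻¹ * x)), fun x => by
    show p.1.2 (c⁻¹ * (x * z)) = - p.1.2 (c⁻¹ * x)
    rw [← mul_assoc]; exact p.2 _⟩

theorem act_one (p : N) : act 1 p = p := by
  apply Subtype.ext
  simp [act]

theorem act_mul (c d : C) (p : N) : act (c * d) p = act c (act d p) := by
  apply Subtype.ext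
  simp [act, Matrix.mulVec_mulVec, mul_assoc]

theorem act_add (c : C) (p q : N) : act c (p + q) = act c p + act c q := by
  apply Subtype.ext
  simp [act, Matrix.mulVec_add]
  rfl

/-- The action as additive automorphisms. -/
def actEquiv (c : C) : N ≃+ N where
  toFun := act c
  invFun := act c⁻¹
  left_inv p := by rw [← act_mul, inv_mul_cancel, act_one]
  right_inv p := by rw [← act_mul, mul_inv_cancel, act_one]
  map_add' := act_add c

/-- The action on the multiplicative kernel. -/
def φ : C →* MulAut (Multiplicative N) where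
  toFun c := AddEquiv.toMultiplicative (actEquiv c)
  map_one' := MulEquiv.ext fun p => congrArg Multiplicative.ofAdd (act_one p.toAdd)
  map_mul' c d := MulEquiv.ext fun p => congrArg Multiplicative.ofAdd (act_mul c d p.toAdd)

/-- The witness group. -/
abbrev G₁ := Multiplicative N ⋊[φ] C

instance : Finite G₁ := Finite.of_equiv _ SemidirectProduct.equivProd.symm

/-- The kernel coordinates of an element. -/
def vec (x : G₁) : (Fin 4 → ZMod 7) × (C → ZMod 3) := ((Multiplicative.toAdd x.left : N) : _)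

theorem vec_anti (x : G₁) (a : C) : (vec x).2 (a * z) = -(vec x).2 a :=
  (Multiplicative.toAdd x.left : N).2 a

theorem pow_coords (x : G₁) (n : ℕ) : (x ^ n).right = x.right ^ n ∧
    (vec (x ^ n)).1 = (∑ i ∈ Finset.range n, mat x.right ^ i).mulVec (vec x).1 ∧
    ∀ t, (vec (x ^ n)).2 t = ∑ i ∈ Finset.range n, (vec x).2 ((x.right ^ i)⁻¹ * t) := by
  induction n with
  | zero => exact ⟨rfl, by simp [vec], fun t => by simp [vec]⟩
  | succ n ih =>
    obtain ⟨h1, h2, h3⟩ := ih
    refine ⟨by rw [pow_succ, SemidirectProduct.mul_right, h1, pow_succ], ?_, fun t => ?_⟩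
    · rw [Finset.sum_range_succ, Matrix.add_mulVec, ← h2, pow_succ, ← map_pow, ← h1]
      rfl
    · rw [Finset.sum_range_succ, ← h3 t, pow_succ, ← h1]
      rfl

theorem ext_coords {x : G₁} (h0 : x.right = 1) (h1 : (vec x).1 = 0) (h2 : ∀ t, (vec x).2 t = 0) :
    x = 1 :=
  SemidirectProduct.ext (Multiplicative.toAdd.injective
    (Subtype.ext (Prod.ext h1 (funext h2)))) h0

theorem pow_21 {x : G₁} (h : x.right = 1) : x ^ 21 = 1 := by
  obtain ⟨h0, h1, h2⟩ := pow_coords x 21
  refine ext_coords (by rw [h0, h, one_pow]) ?_ fun t => ?_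
  · rw [h1, h]
    simp [Matrix.smul_mulVec, show (21 : ZMod 7) = 0 by decide]
  · rw [h2, h]
    simp [show (21 : ZMod 3) = 0 by decide]

theorem pow_three_mul {x : G₁} {k : ℕ} (h : (∑ i ∈ Finset.range k, mat x.right ^ i) = 0) :
    x ^ (k * 3) = 1 := by
  have hk : x.right ^ k = 1 := mat_injective (by
    have := mul_geom_sum (mat x.right) k
    rw [h, mul_zero] at this
    rw [map_pow, map_one]
    exact (sub_eq_zero.1 this.symm))
  obtain ⟨h0, h1, -⟩ := pow_coords x k
  rw [pow_mul]
  obtain ⟨g0', g1', g2'⟩ := pow_coords (x ^ k) 3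
  rw [h0, hk] at g0' g1' g2'
  refine ext_coords (by rw [g0', one_pow]) ?_ fun t => ?_
  · rw [g1', h1, h]; simp
  · rw [g2']
    simp [show (3 : ZMod 3) = 0 by decide]

theorem pow_two_mul {x : G₁} {j : ℕ} (h : mat x.right ^ j = -1) : x ^ (2 * j) = 1 := by
  have hz : x.right ^ j = z := mat_injective (by rw [map_pow, h, mat_z])
  have hk : x.right ^ (2 * j) = 1 := mat_injective (by
    rw [map_pow, mul_comm, pow_mul, h, map_one]; simp)
  obtain ⟨h0, h1, h2⟩ := pow_coords x (2 * j)
  refine ext_coords (by rw [h0, hk]) ?_ fun t => ?_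
  · rw [h1, two_mul, Finset.sum_range_add]
    simp [pow_add, h]
  · rw [h2 t, two_mul, Finset.sum_range_add, ← Finset.sum_add_distrib]
    refine Finset.sum_eq_zero fun i _ => ?_
    have hN : (vec x).2 ((x.right ^ (j + i))⁻¹ * t * z) =
        -(vec x).2 ((x.right ^ (j + i))⁻¹ * t) := vec_anti x _
    have : (x.right ^ (j + i))⁻¹ * t * z = (x.right ^ i)⁻¹ * t := by
      rw [pow_add, hz, mul_inv_rev, mul_assoc, mul_assoc, ← z_comm t, ← mul_assoc z⁻¹,
        inv_mul_cancel, one_mul]
    rw [this] at hN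
    rw [hN, neg_add_cancel]

theorem orderOf_mem (x : G₁) :
    orderOf x ∈ ({1, 2, 3, 4, 5, 6, 7, 8, 9, 10, 12, 15, 21} : Finset ℕ) := by
  have key : ∀ n : ℕ, x ^ n = 1 → n ≠ 0 →
      (∀ d ∈ Nat.divisors n, d ∈ ({1, 2, 3, 4, 5, 6, 7, 8, 9, 10, 12, 15, 21} : Finset ℕ)) →
      orderOf x ∈ ({1, 2, 3, 4, 5, 6, 7, 8, 9, 10, 12, 15, 21} : Finset ℕ) :=
    fun n hn h0 h => h _ (Nat.mem_divisors.2 ⟨orderOf_dvd_of_pow_eq_one hn, h0⟩)
  rcases cases_C x.right with h | h | h | ⟨j, hj, h⟩
  · exact key 21 (pow_21 h) (by decide) (by decide +kernel)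
  · exact key _ (pow_three_mul h) (by decide) (by decide +kernel)
  · exact key _ (pow_three_mul h) (by decide) (by decide +kernel)
  · have h2j := pow_two_mul h
    rw [Finset.mem_Icc] at hj
    obtain ⟨hl, hu⟩ := hj
    interval_cases j
    all_goals exact key _ h2j (by decide) (by decide +kernel)

/-- The test vector of exponent 7. -/
def v₀ : N := ⟨(fun _ => 1, 0), fun x => by simp⟩

open Classical in
/-- The test vector of exponent 3. -/
noncomputable def f₀ : N := ⟨(0, fun t => (if t = 1 then 1 else 0) - if t = z then 1 else 0),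
  fun x => by
    have hzz : z * z = 1 := mat_injective (by simp [mat_z])
    have e1 : x * z = 1 ↔ x = z := ⟨fun h => mul_right_cancel (h.trans hzz.symm), fun h => h ▸ hzz⟩
    have e2 : x * z = z ↔ x = 1 := ⟨fun h => mul_right_cancel (h.trans (one_mul z).symm),
      fun h => by rw [h, one_mul]⟩
    show (if x * z = 1 then (1 : ZMod 3) else 0) - (if x * z = z then 1 else 0) =
      -((if x = 1 then 1 else 0) - if x = z then 1 else 0)
    rw [neg_sub]
    simp only [e1, e2]⟩

theorem z_ne_one : z ≠ 1 := fun h => by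
  have := mat_z
  rw [h, map_one] at this
  exact absurd this (by decide +kernel)

theorem f₀_apply_one : f₀.1.2 1 = 1 := by
  classical
  simp [f₀, Ne.symm z_ne_one]

/-- An element of the complement of prime order gives an element of three times that order. -/
theorem orderOf_twist {c : C} {q : ℕ} (hq : q = 3 ∨ q = 5) (hc : orderOf c = q)
    (hgeom : (∑ i ∈ Finset.range q, mat c ^ i) = 0) :
    orderOf (⟨Multiplicative.ofAdd f₀, c⟩ : G₁) = q * 3 := by
  set x : G₁ := ⟨Multiplicative.ofAdd f₀, c⟩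
  have hup : x ^ (q * 3) = 1 := pow_three_mul hgeom
  have hd : q ∣ orderOf x :=
    hc ▸ orderOf_map_dvd (SemidirectProduct.rightHom : G₁ →* C) x
  have hne : x ^ q ≠ 1 := fun h => by
    obtain ⟨-, -, h2⟩ := pow_coords x q
    rw [h] at h2
    have h2 := h2 1
    classical
    rw [show (vec (1 : G₁)).2 1 = 0 from rfl, Finset.sum_eq_single_of_mem 0
      (Finset.mem_range.2 (by omega))] at h2
    · rw [pow_zero, inv_one, one_mul] at h2
      exact one_ne_zero (f₀_apply_one.symm.trans h2.symm)
    intro i hi hi0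
    rw [Finset.mem_range] at hi
    have hne1 : (c ^ i)⁻¹ ≠ 1 := by
      rw [ne_eq, inv_eq_one, ← orderOf_dvd_iff_pow_eq_one, hc]
      exact fun hd => hi0 (Nat.eq_zero_of_dvd_of_lt hd hi)
    have hnez : (c ^ i)⁻¹ ≠ z := fun he => by
      refine z_ne_one ?_
      have h2 : z ^ 2 = 1 := mat_injective (by simp [mat_z])
      have hodd : z ^ q = z := by
        obtain ⟨m, hm⟩ : Odd q := by rcases hq with rfl | rfl <;> decide
        rw [hm, pow_succ, pow_mul, h2, one_pow, one_mul]
      rw [← hodd, ← he, inv_pow, ← pow_mul, mul_comm, pow_mul, ← hc, pow_orderOf_eq_one,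
        one_pow, inv_one]
    simp [x, vec, f₀, hne1, hnez]
  obtain ⟨m, hm⟩ := hd
  have hm3 : m ∣ 3 := by
    have := orderOf_dvd_of_pow_eq_one hup
    rw [hm] at this
    exact Nat.dvd_of_mul_dvd_mul_left (by omega) this
  rcases (Nat.dvd_prime Nat.prime_three).1 hm3 with h | h
  · exfalso
    refine hne ?_
    rw [show q = orderOf x by rw [hm, h, mul_one]]
    exact pow_orderOf_eq_one x
  · rw [hm, h]

theorem pow_inr_eq {w : C} {l : List Nat} (hl : mat w = toMat l) (j : ℕ) (h : pw l j = one) :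
    w ^ j = 1 := mat_injective (by rw [map_pow, hl, ← toMat_pw, h, toMat_one, map_one])

theorem orderOf_C {w : C} {l : List Nat} (hl : mat w = toMat l) {k : ℕ} (hk : 0 < k)
    (h1 : pw l k = one) (h2 : ∀ j < k, 0 < j → toMat (pw l j) ≠ toMat one) : orderOf w = k :=
  (orderOf_eq_iff hk).2 ⟨pow_inr_eq hl k h1, fun j hj hj0 he => h2 j hj hj0 (by
    rw [toMat_pw, ← hl, ← map_pow, he, map_one, toMat_one])⟩

/-- A word of order 10. -/
def w₁₀ : C := a₀ * b * a₀ * b * b * b

theorem mat_w₁₀ : mat w₁₀ = toMat (mul (mul (mul (mul (mul g0 g1) g0) g1) g1) g1) := by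
  simp only [toMat_mul, w₁₀, map_mul]
  rfl

theorem mat_a₀b : mat (a₀ * b) = toMat (mul g0 g1) := by
  simp only [toMat_mul, map_mul]
  rfl

theorem exists_orderOf (k : ℕ)
    (hk : k ∈ ({1, 2, 3, 4, 5, 6, 7, 8, 9, 10, 12, 15, 21} : Finset ℕ)) :
    ∃ x : G₁, orderOf x = k := by
  have lift : ∀ c : C, orderOf (SemidirectProduct.inr c : G₁) = orderOf c := fun c =>
    orderOf_injective _ SemidirectProduct.inr_injective c
  have o12 : orderOf b = 12 :=
    orderOf_C (l := g1) rfl (by decide) (by decide +kernel) (by decide +kernel)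
  have o10 : orderOf w₁₀ = 10 :=
    orderOf_C mat_w₁₀ (by decide) (by decide +kernel) (by decide +kernel)
  have o8 : orderOf (a₀ * b) = 8 :=
    orderOf_C mat_a₀b (by decide) (by decide +kernel) (by decide +kernel)
  have opow : ∀ (c : C) (o d : ℕ), orderOf c = o → 0 < d → d ∣ o →
      ∃ x : G₁, orderOf x = o / d := fun c o d ho hd hdo =>
    ⟨SemidirectProduct.inr (c ^ d), by
      rw [lift, orderOf_pow' _ (by omega), ho, Nat.gcd_eq_right hdo]⟩
  have geom_of : ∀ (w : C) (l : List Nat) (n : ℕ), mat w = toMat l → geom l n = zero →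
      (∑ i ∈ Finset.range n, mat w ^ i) = 0 := fun w l n hw h => by
    rw [hw, ← toMat_geom, h, toMat_zero]
  simp only [Finset.mem_insert, Finset.mem_singleton] at hk
  rcases hk with rfl | rfl | rfl | rfl | rfl | rfl | rfl | rfl | rfl | rfl | rfl | rfl | rfl
  · exact ⟨1, orderOf_one⟩
  · exact opow b 12 6 o12 (by decide) (by decide)
  · exact opow b 12 4 o12 (by decide) (by decide)
  · exact opow b 12 3 o12 (by decide) (by decide)
  · exact opow w₁₀ 10 2 o10 (by decide) (by decide)
  · exact opow b 12 2 o12 (by decide) (by decide)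
  · refine ⟨SemidirectProduct.inl (Multiplicative.ofAdd v₀), ?_⟩
    rw [orderOf_injective _ SemidirectProduct.inl_injective, orderOf_ofAdd_eq_addOrderOf]
    have : Fact (Nat.Prime 7) := ⟨by norm_num⟩
    refine addOrderOf_eq_prime (Subtype.ext ?_) fun h => ?_
    · have h77 : (7 : ZMod 7) = 0 := ZMod.natCast_self 7
      ext i <;> simp [v₀, h77]
    · have := congrFun (congrArg Prod.fst (congrArg Subtype.val h)) 0
      simp [v₀] at this
  · exact ⟨_, (lift _).trans o8⟩
  · refine ⟨_, orderOf_twist (c := b ^ 4) (Or.inl rfl) ?_ ?_⟩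
    · rw [orderOf_pow' _ (by decide), o12]; decide
    · exact geom_of _ (pw g1 4) _ (by rw [toMat_pw, map_pow]; rfl) (by decide +kernel)
  · exact ⟨_, (lift _).trans o10⟩
  · exact ⟨_, (lift _).trans o12⟩
  · refine ⟨_, orderOf_twist (c := w₁₀ ^ 2) (Or.inr rfl) ?_ ?_⟩
    · rw [orderOf_pow' _ (by decide), o10]; decide
    · exact geom_of _ (pw (mul (mul (mul (mul (mul g0 g1) g0) g1) g1) g1) 2) _
        (by rw [toMat_pw, map_pow, mat_w₁₀]) (by decide +kernel)
  · refine ⟨SemidirectProduct.inl (Multiplicative.ofAdd (v₀ + f₀)), ?_⟩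
    rw [orderOf_injective _ SemidirectProduct.inl_injective, orderOf_ofAdd_eq_addOrderOf]
    refine (addOrderOf_eq_iff (by decide)).2 ⟨?_, fun m hm hm0 h => ?_⟩
    · apply Subtype.ext
      have h1 : (21 : ZMod 7) = 0 := (ZMod.natCast_eq_zero_iff 21 7).2 (by decide)
      have h2 : (21 : ZMod 3) = 0 := (ZMod.natCast_eq_zero_iff 21 3).2 (by decide)
      ext i <;> simp [h1, h2]
    · have h7 := congrFun (congrArg Prod.fst (congrArg Subtype.val h)) 0
      have h3 := congrFun (congrArg Prod.snd (congrArg Subtype.val h)) 1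
      simp [v₀, f₀, Ne.symm z_ne_one, ZMod.natCast_eq_zero_iff] at h7 h3
      omega

theorem range_orderOf : Set.range (orderOf : G₁ → ℕ) =
    Set.range (orderOf : alternatingGroup (Fin 10) → ℕ) := by
  rw [range_orderOf_alternating_ten]
  ext k
  refine ⟨?_, fun hk => exists_orderOf k hk⟩
  rintro ⟨x, rfl⟩
  exact orderOf_mem x

/-- The elements of the kernel with trivial 3-part. -/
def V : Subgroup G₁ where
  carrier := {x | x.right = 1 ∧ ∀ t, (vec x).2 t = 0}
  one_mem' := ⟨rfl, fun _ => rfl⟩
  mul_mem' := fun {x y} hx hy => ⟨by simp [hx.1, hy.1], fun t => by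
    show (vec x).2 t + (vec y).2 (x.right⁻¹ * t) = 0
    rw [hx.2, hy.2, add_zero]⟩
  inv_mem' := fun {x} hx => ⟨by simp [hx.1], fun t => by
    show -((vec x).2 _) = 0
    rw [hx.2, neg_zero]⟩

instance : V.Normal where
  conj_mem x hx g := ⟨by simp [hx.1], fun t => by
    show (vec g).2 t + (vec x).2 (g.right⁻¹ * t) + -((vec g).2 _) = 0
    rw [hx.2, SemidirectProduct.mul_right, hx.1, mul_one, add_zero]
    simp [mul_assoc]⟩

theorem exists_large (k : ℕ) : ∃ (H : Type) (_ : Group H) (_ : Fintype H), k < Fintype.card H ∧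
    Set.range (orderOf : H → ℕ) = Set.range (orderOf : alternatingGroup (Fin 10) → ℕ) := by
  rw [← range_orderOf]
  refine exists_large_isospectral V ?_ (by norm_num : Nat.Prime 7) ?_ k
  · intro h
    have hmem : (SemidirectProduct.inl (Multiplicative.ofAdd v₀) : G₁) ∈ V :=
      ⟨rfl, fun _ => rfl⟩
    rw [h, Subgroup.mem_bot] at hmem
    have h0 := congrFun (congrArg (fun x : G₁ => (vec x).1) hmem) 0
    change (1 : ZMod 7) = 0 at h0
    exact absurd h0 (by decide)
  · intro x
    refine Subtype.ext ?_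
    rw [SubmonoidClass.coe_pow]
    obtain ⟨h0, h1, h2⟩ := pow_coords (x : G₁) 7
    refine ext_coords (by rw [h0, x.2.1, one_pow]) ?_ fun t => ?_
    · rw [h1, x.2.1]
      simp [Matrix.smul_mulVec, show (7 : ZMod 7) = 0 by decide]
    · rw [h2]
      exact Finset.sum_eq_zero fun i _ => x.2.2 _

end CfsgLib.SpecBlow.A10
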