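import Mathlib
import Cfsg.Agent.PrimeGraph.PSL2Spectrum

/-!
# A solvable extension with four of the six maximal element orders of a small Ree group

For `q = 3 ^ (2 m + 1)` the group `PSL(2,q) × {±1}` acts on the `2 × 2` matrices over the field
with `q` elements by `X ↦ ± A X σ(A)ᵀ`, `σ x = x ^ 9`.  The semidirect product has element orders
exactly the divisors of `6`, `9`, `q - 1` and `(q + 1) / 2`.
-/

set_option autoImplicit false

namespace CfsgLib.SpecBlow.ReeCube

open Matrix

variable (F : Type*) [Field F] [CharP F 3]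

local instance instFactThree : Fact (Nat.Prime 3) := ⟨Nat.prime_three⟩

/-- The module. -/
abbrev W := Matrix (Fin 2) (Fin 2) F

/-- The ninth power map. -/
def nine : F →+* F := iterateFrobenius F 3 2

theorem nine_apply (x : F) : nine F x = x ^ 9 := by
  rw [nine, iterateFrobenius_def]; norm_num

/-- The twisted two-sided action of `SL₂`. -/
def slAct : Matrix.SpecialLinearGroup (Fin 2) F →* MulAut (Multiplicative (W F)) where
  toFun A :=
    { toFun := fun X => Multiplicative.ofAdd
        ((A : W F) * X.toAdd * ((nine F).mapMatrix (A : W F))ᵀ)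
      invFun := fun X => Multiplicative.ofAdd
        (((A⁻¹ : Matrix.SpecialLinearGroup (Fin 2) F) : W F) * X.toAdd *
          ((nine F).mapMatrix ((A⁻¹ : Matrix.SpecialLinearGroup (Fin 2) F) : W F))ᵀ)
      left_inv := fun X => by
        have h1 : ((A⁻¹ : Matrix.SpecialLinearGroup (Fin 2) F) : W F) * (A : W F) = 1 := by
          rw [← Matrix.SpecialLinearGroup.coe_mul, inv_mul_cancel, Matrix.SpecialLinearGroup.coe_one]
        have h2 : ((nine F).mapMatrix (A : W F))ᵀ *
            ((nine F).mapMatrix ((A⁻¹ : Matrix.SpecialLinearGroup (Fin 2) F) : W F))ᵀ = 1 := by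
          rw [← Matrix.transpose_mul, ← map_mul, h1, map_one, Matrix.transpose_one]
        simp only [toAdd_ofAdd]
        rw [← mul_assoc, ← mul_assoc, h1, one_mul, mul_assoc, h2, mul_one, ofAdd_toAdd]
      right_inv := fun X => by
        have h1 : (A : W F) * ((A⁻¹ : Matrix.SpecialLinearGroup (Fin 2) F) : W F) = 1 := by
          rw [← Matrix.SpecialLinearGroup.coe_mul, mul_inv_cancel, Matrix.SpecialLinearGroup.coe_one]
        have h2 : ((nine F).mapMatrix ((A⁻¹ : Matrix.SpecialLinearGroup (Fin 2) F) : W F))ᵀ *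
            ((nine F).mapMatrix (A : W F))ᵀ = 1 := by
          rw [← Matrix.transpose_mul, ← map_mul, h1, map_one, Matrix.transpose_one]
        simp only [toAdd_ofAdd]
        rw [← mul_assoc, ← mul_assoc, h1, one_mul, mul_assoc, h2, mul_one, ofAdd_toAdd]
      map_mul' := fun X Y => by
        simp only [toAdd_mul, mul_add, add_mul, ofAdd_add] }
  map_one' := by
    ext X
    simp
  map_mul' A B := by
    ext X
    simp only [MulAut.mul_apply, MulEquiv.coe_mk, Equiv.coe_fn_mk, toAdd_ofAdd,
      Matrix.SpecialLinearGroup.coe_mul, map_mul, Matrix.transpose_mul, mul_assoc]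

theorem slAct_apply (A : Matrix.SpecialLinearGroup (Fin 2) F) (X : Multiplicative (W F)) :
    (slAct F A X).toAdd = (A : W F) * X.toAdd * ((nine F).mapMatrix (A : W F))ᵀ := rfl

theorem center_le_ker :
    Subgroup.center (Matrix.SpecialLinearGroup (Fin 2) F) ≤ (slAct F).ker := by
  intro A hA
  obtain ⟨c, hc⟩ := (CfsgLib.PSL2Spec.mk_eq_one_iff A).1 ((QuotientGroup.eq_one_iff A).2 hA)
  have hc2 : c ^ 2 = 1 := by
    have h := A.2
    rw [hc] at h
    simpa using h
  have h10 : c * nine F c = 1 := by
    rw [nine_apply, ← pow_succ', show 9 + 1 = 2 * 5 from rfl, pow_mul, hc2, one_pow]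
  rw [MonoidHom.mem_ker]
  ext X : 1
  apply Multiplicative.toAdd.injective
  rw [slAct_apply, hc]
  ext i j
  fin_cases i <;> fin_cases j <;>
    simp [Matrix.mul_apply, Fin.sum_univ_two] <;> linear_combination (X.toAdd _ _) * h10

/-- The action of `PSL₂`. -/
def pslAct : Matrix.ProjectiveSpecialLinearGroup (Fin 2) F →* MulAut (Multiplicative (W F)) :=
  QuotientGroup.lift _ (slAct F) (center_le_ker F)

/-- The signs. -/
def sgnAct : ℤˣ →* MulAut (Multiplicative (W F)) where
  toFun e :=
    { toFun := fun X => X ^ (e : ℤ)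
      invFun := fun X => X ^ (e : ℤ)
      left_inv := fun X => by
        change (X ^ (e : ℤ)) ^ (e : ℤ) = X
        rw [← _root_.zpow_mul, ← Units.val_mul, Int.units_mul_self, Units.val_one, zpow_one]
      right_inv := fun X => by
        change (X ^ (e : ℤ)) ^ (e : ℤ) = X
        rw [← _root_.zpow_mul, ← Units.val_mul, Int.units_mul_self, Units.val_one, zpow_one]
      map_mul' := fun X Y => mul_zpow X Y _ }
  map_one' := by
    ext X
    simp
  map_mul' a b := by
    ext X : 1
    change X ^ ((a * b : ℤˣ) : ℤ) = (X ^ (b : ℤ)) ^ (a : ℤ)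
    rw [← _root_.zpow_mul, Units.val_mul, mul_comm]

/-- The acting group. -/
abbrev Q := Matrix.ProjectiveSpecialLinearGroup (Fin 2) F × ℤˣ

/-- The action of `PSL₂ × {±1}`. -/
def act : Q F →* MulAut (Multiplicative (W F)) where
  toFun p := pslAct F p.1 * sgnAct F p.2
  map_one' := by simp
  map_mul' p r := by
    have hc : pslAct F r.1 * sgnAct F p.2 = sgnAct F p.2 * pslAct F r.1 := by
      ext X : 1
      change pslAct F r.1 (X ^ ((p.2 : ℤˣ) : ℤ)) = (pslAct F r.1 X) ^ ((p.2 : ℤˣ) : ℤ)
      exact map_zpow _ _ _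
    rw [Prod.fst_mul, Prod.snd_mul, map_mul, map_mul, mul_assoc, ← mul_assoc (pslAct F r.1), hc]
    simp only [mul_assoc]

/-- The extension. -/
abbrev H := Multiplicative (W F) ⋊[act F] (Q F)

theorem exponent (v : Multiplicative (W F)) : v ^ 3 = 1 := by
  apply Multiplicative.toAdd.injective
  rw [toAdd_pow, toAdd_one]
  ext i j
  rw [Matrix.smul_apply, nsmul_eq_mul, CharP.cast_eq_zero, zero_mul, Matrix.zero_apply]

theorem eq_inl {h : H F} (hr : h.right = 1) : h = SemidirectProduct.inl h.left := by
  ext <;> simp [hr]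

theorem pow_mul_three {h : H F} {n : ℕ} (hr : h.right ^ n = 1) : h ^ (n * 3) = 1 := by
  rw [pow_mul]
  have : (h ^ n).right = 1 := by
    rw [← SemidirectProduct.rightHom_eq_right]
    rw [map_pow]
    exact hr
  rw [eq_inl F this, ← map_pow, exponent, map_one]

/-- Fixed points of a semisimple element. -/
theorem fixed_trivial {B : W F} (hdet : B.det = 1) (hne : nine F B.trace ≠ B.trace) {X : W F}
    (hX : B * X * ((nine F).mapMatrix B)ᵀ = X) : X = 0 := by
  set t := B.trace with ht
  set s := nine F t with hs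
  set C := ((nine F).mapMatrix B)ᵀ with hC
  have hB : B * B = t • B - 1 := by
    have hd := hdet
    rw [Matrix.det_fin_two] at hd
    ext i j
    fin_cases i <;> fin_cases j <;>
      simp [t, Matrix.trace_fin_two, Matrix.mul_apply, Fin.sum_univ_two] <;>
        first | ring1 | linear_combination -hd
  have hC2 : C * C = s • C - 1 := by
    have h := congrArg (fun M : W F => ((nine F).mapMatrix M)ᵀ) hB
    simp only [map_mul, map_sub, map_one, Matrix.transpose_mul, Matrix.transpose_sub,
      Matrix.transpose_one] at h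
    rw [h]
    congr 1
    ext i j
    simp [hC, hs]
  have hinv : C * (s • 1 - C) = 1 := by
    rw [Matrix.mul_sub, Matrix.mul_smul, mul_one, hC2, sub_sub_cancel]
  set D := s • (1 : W F) - C with hD
  have hBX : B * X = X * D := by
    conv_rhs => rw [← hX]
    rw [mul_assoc, hinv, mul_one]
  have hDD : D * D = s • D - 1 := by
    rw [hD, Matrix.sub_mul, Matrix.smul_mul, one_mul, hinv]
  have h0 : (s - t) • (B * X) = 0 := by
    have e1 : B * (B * X) = t • (B * X) - X := by
      rw [← mul_assoc, hB, Matrix.sub_mul, Matrix.smul_mul, one_mul]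
    have e2 : B * (B * X) = s • (B * X) - X := by
      rw [hBX, ← mul_assoc, hBX, mul_assoc, hDD, Matrix.mul_sub, Matrix.mul_smul, mul_one]
    rw [sub_smul, sub_eq_zero]
    exact sub_left_injective (e2.symm.trans e1)
  have hBX0 : B * X = 0 := (smul_eq_zero.1 h0).resolve_left (sub_ne_zero.2 hne)
  rw [← hX, hBX0, zero_mul]

theorem sgn_fixed {e : ℤˣ} {X Y : Multiplicative (W F)} :
    (sgnAct F e) ((sgnAct F e) X) = Y ↔ X = Y := by
  rw [← MulAut.mul_apply, ← map_mul, Int.units_mul_self, map_one, MulAut.one_apply]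

variable {F}

/-- An element without fixed points contributes nothing to the module part of a power. -/
theorem pow_eq_one_of_fpf {h : H F} {n : ℕ} (hr : h.right ^ n = 1)
    (hf : ∀ v, act F h.right v = v → v = 1) : h ^ n = 1 := by
  have hright : (h ^ n).right = 1 := by
    rw [← SemidirectProduct.rightHom_eq_right]
    rw [map_pow]
    exact hr
  have hc : h * h ^ n = h ^ n * h := (Commute.self_pow h n).eq
  have hl := congrArg SemidirectProduct.left hc
  rw [SemidirectProduct.mul_left, SemidirectProduct.mul_left, hright, map_one, MulAut.one_apply,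
    mul_comm (h ^ n).left] at hl
  rw [eq_inl F hright, hf _ (mul_left_cancel hl), map_one]

section Finite

variable [Fintype F] {m : ℕ} (hF : Fintype.card F = 3 ^ (2 * m + 1))

omit [CharP F 3] in
theorem card_mod_eight (m : ℕ) : 3 ^ (2 * m + 1) % 8 = 3 := by
  induction m with
  | zero => norm_num
  | succ m ih =>
    rw [show 2 * (m + 1) + 1 = (2 * m + 1) + 2 from by ring, pow_add, Nat.mul_mod, ih]
    norm_num

theorem card_mod_three (m : ℕ) : 3 ^ (2 * m + 1) % 3 = 0 := by
  rw [pow_succ, Nat.mul_mod_left]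

include hF in
theorem gcd_two : Nat.gcd 2 (Fintype.card F - 1) = 2 := by
  rw [hF]
  have := card_mod_eight m
  exact Nat.gcd_eq_left (by omega)

include hF in
/-- Every element order divides one of the four numbers. -/
theorem orderOf_dvd (h : H F) :
    orderOf h ∣ 6 ∨ orderOf h ∣ 9 ∨ orderOf h ∣ 3 ^ (2 * m + 1) - 1 ∨
      orderOf h ∣ (3 ^ (2 * m + 1) + 1) / 2 := by
  have h8 := card_mod_eight m
  have h3 := card_mod_three m
  set q := 3 ^ (2 * m + 1) with hq
  obtain ⟨A, hA⟩ := QuotientGroup.mk_surjective h.right.1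
  have hdv := CfsgLib.PSL2Spec.orderOf_dvd 3 h.right.1
  rw [gcd_two hF, hF] at hdv
  have hpow : ∀ n, orderOf h.right.1 ∣ n → 2 ∣ n → h.right ^ n = 1 := by
    intro n hn h2
    refine Prod.ext ?_ ?_
    · rw [Prod.pow_fst]
      exact orderOf_dvd_iff_pow_eq_one.1 hn
    · obtain ⟨j, rfl⟩ := h2
      rw [Prod.pow_snd, pow_mul, Int.units_sq, one_pow]
      rfl
  rcases hdv with h3' | hs
  · have hg : h.right.1 ^ 3 = 1 := orderOf_dvd_iff_pow_eq_one.1 h3'
    rcases Int.units_eq_one_or h.right.2 with e | e
    · refine Or.inr (Or.inl (orderOf_dvd_of_pow_eq_one (pow_mul_three F (n := 3) ?_)))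
      exact Prod.ext (by rw [Prod.pow_fst, hg]; rfl) (by rw [Prod.pow_snd, e, one_pow]; rfl)
    · refine Or.inl (orderOf_dvd_of_pow_eq_one ?_)
      have hk : (h ^ 3).right = (1, -1) := by
        rw [← SemidirectProduct.rightHom_eq_right]
        rw [map_pow]
        exact Prod.ext (by rw [Prod.pow_fst]; exact hg)
          (by rw [Prod.pow_snd]; show h.right.2 ^ 3 = -1; rw [e]; decide)
      rw [show 6 = 3 * 2 from rfl, pow_mul, pow_two]
      ext : 1
      · rw [SemidirectProduct.mul_left, hk]
        change (h ^ 3).left * (pslAct F 1 * sgnAct F (-1)) (h ^ 3).left = 1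
        rw [map_one, one_mul]
        change (h ^ 3).left * (h ^ 3).left ^ ((-1 : ℤˣ) : ℤ) = 1
        rw [Units.val_neg, Units.val_one, _root_.zpow_neg_one, mul_inv_cancel]
      · rw [SemidirectProduct.mul_right, hk]
        exact Prod.ext (mul_one _) (by show (-1 : ℤˣ) * -1 = 1; decide)
  -- semisimple
  by_cases h2 : orderOf h.right.1 ∣ 2
  · refine Or.inl (orderOf_dvd_of_pow_eq_one ?_)
    exact pow_mul_three F (hpow 2 h2 dvd_rfl)
  have hfix : ∀ v, act F h.right v = v → v = 1 := by
    intro v hv
    apply Multiplicative.toAdd.injective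
    rw [toAdd_one]
    have hv' : pslAct F h.right.1 (sgnAct F h.right.2 v) = v := hv
    have hv2 : pslAct F (h.right.1 * h.right.1) v = v := by
      rw [map_mul, MulAut.mul_apply]
      have e1 : pslAct F h.right.1 v = sgnAct F h.right.2 v := by
        have := congrArg (sgnAct F h.right.2) hv'
        rw [← this]
        change pslAct F h.right.1 v = (pslAct F h.right.1 (v ^ ((h.right.2 : ℤˣ) : ℤ))) ^ ((h.right.2 : ℤˣ) : ℤ)
        rw [map_zpow, ← _root_.zpow_mul, ← Units.val_mul, Int.units_mul_self, Units.val_one, zpow_one]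
      rw [e1]
      exact hv'
    have hB : ((A * A : Matrix.SpecialLinearGroup (Fin 2) F) : W F) * v.toAdd *
        ((nine F).mapMatrix ((A * A : Matrix.SpecialLinearGroup (Fin 2) F) : W F))ᵀ = v.toAdd := by
      rw [← slAct_apply]
      rw [← hA] at hv2
      exact congrArg Multiplicative.toAdd hv2
    refine fixed_trivial F (A * A).2 ?_ hB
    intro ht
    set B := ((A * A : Matrix.SpecialLinearGroup (Fin 2) F) : W F) with hBdef
    rw [nine_apply] at ht
    have hB2 : B * B = B.trace • B - 1 := by
      have hd : B.det = 1 := (A * A).2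
      rw [Matrix.det_fin_two] at hd
      ext i j
      fin_cases i <;> fin_cases j <;>
        simp [Matrix.trace_fin_two, Matrix.mul_apply, Fin.sum_univ_two] <;>
        first | ring1 | linear_combination -hd
    have hscal : ∀ n : ℕ, (∃ c : F, B ^ n = c • 1) → orderOf h.right.1 ∣ 2 * n := by
      intro n hn
      apply orderOf_dvd_of_pow_eq_one
      rw [← hA, pow_mul, ← QuotientGroup.mk_pow, ← QuotientGroup.mk_pow, pow_two,
        CfsgLib.PSL2Spec.mk_eq_one_iff]
      rw [Matrix.SpecialLinearGroup.coe_pow]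
      exact hn
    have hcases : orderOf h.right.1 ∣ 2 * 2 ∨ orderOf h.right.1 ∣ 2 * 3 := by
      by_cases h0 : B.trace = 0
      · refine Or.inl (hscal 2 ⟨-1, ?_⟩)
        rw [pow_two, hB2, h0, zero_smul, zero_sub, neg_one_smul]
      · have ht8 : B.trace ^ 8 = 1 := by
          apply mul_right_cancel₀ h0
          rw [one_mul, ← pow_succ]
          exact ht
        have htq : B.trace ^ (q - 1) = 1 := by
          have := FiniteField.pow_card_sub_one_eq_one B.trace h0
          rwa [hF] at this
        have hgcd : Nat.gcd 8 (q - 1) = 2 := by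
          rw [Nat.gcd_rec, show (q - 1) % 8 = 2 by omega]
          rfl
        have ht2 : B.trace ^ 2 = 1 := by
          have hg := pow_gcd_eq_one.2 ⟨ht8, htq⟩
          rwa [hgcd] at hg
        refine Or.inr (hscal 3 ⟨-B.trace, ?_⟩)
        rw [pow_succ, pow_two, hB2, Matrix.sub_mul, Matrix.smul_mul, hB2, one_mul, smul_sub,
          smul_smul, ← pow_two, ht2, one_smul, neg_smul]
        abel
    apply h2
    set d := orderOf h.right.1
    have hd3 : d ∣ 2 * 3 → d ∣ 2 := by
      intro hd
      refine Nat.Coprime.dvd_of_dvd_mul_right ?_ hd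
      rw [Nat.coprime_comm, Nat.Prime.coprime_iff_not_dvd Nat.prime_three]
      intro h3d
      rcases hs with hs | hs <;> have := h3d.trans hs <;> omega
    rcases hs with hs | hs
    · have hodd : ¬ 2 ∣ d := fun hd => by have := hd.trans hs; omega
      rcases hcases with hc | hc
      · have hd1 : d ≤ 4 := Nat.le_of_dvd (by norm_num) hc
        interval_cases d <;> omega
      · exact hd3 hc
    · rcases hcases with hc | hc
      · have hd1 : d ≤ 4 := Nat.le_of_dvd (by norm_num) hc
        interval_cases d <;> omega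
      · exact hd3 hc
  rcases hs with hs | hs
  · refine Or.inr (Or.inr (Or.inl (orderOf_dvd_of_pow_eq_one (pow_eq_one_of_fpf ?_ hfix))))
    exact hpow _ (hs.trans ⟨2, by omega⟩) (by omega)
  · refine Or.inr (Or.inr (Or.inr (orderOf_dvd_of_pow_eq_one (pow_eq_one_of_fpf ?_ hfix))))
    exact hpow _ hs (by omega)

theorem orderOf_inr (x : Q F) : orderOf (SemidirectProduct.inr x : H F) = orderOf x :=
  orderOf_injective SemidirectProduct.inr SemidirectProduct.inr_injective x

theorem orderOf_neg_one : orderOf (-1 : ℤˣ) = 2 := orderOf_eq_prime (by decide) (by decide)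

include hF in
/-- All four numbers are element orders. -/
theorem exists_orders :
    (∃ h : H F, orderOf h = 6) ∧ (∃ h : H F, orderOf h = 9) ∧
      (∃ h : H F, orderOf h = 3 ^ (2 * m + 1) - 1) ∧
      ∃ h : H F, orderOf h = (3 ^ (2 * m + 1) + 1) / 2 := by
  have h8 := card_mod_eight m
  refine ⟨?_, ?_, ?_, ?_⟩
  · obtain ⟨g, hg⟩ := CfsgLib.PSL2Spec.exists_orderOf_p (F := F) 3
    refine ⟨SemidirectProduct.inr (g, -1), ?_⟩
    rw [orderOf_inr, Prod.orderOf_mk, hg, orderOf_neg_one]
    rfl
  · let u : Matrix.SpecialLinearGroup (Fin 2) F := ⟨!![1, 1; 0, 1], by simp [Matrix.det_fin_two]⟩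
    let v : Multiplicative (W F) := Multiplicative.ofAdd !![0, 0; 0, 1]
    let g : Q F := (QuotientGroup.mk u, 1)
    refine ⟨⟨v, g⟩, ?_⟩
    have hu3 : u ^ 3 = 1 := by
      apply Subtype.ext
      rw [Matrix.SpecialLinearGroup.coe_pow, pow_succ, pow_two]
      have e3 : (1 : F) + 1 + 1 = 0 := by
        have := CharP.cast_eq_zero F 3
        push_cast at this
        linear_combination this
      ext i j
      fin_cases i <;> fin_cases j <;> simp [u, Matrix.mul_apply, Fin.sum_univ_two]
      linear_combination e3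
    have hg3 : g ^ 3 = 1 :=
      Prod.ext (by rw [Prod.pow_fst, ← QuotientGroup.mk_pow, hu3]; rfl) (one_pow 3)
    apply orderOf_eq_prime_pow (p := 3) (n := 1)
    · intro h
      have hl := congrArg SemidirectProduct.left h
      rw [pow_one, pow_succ, pow_two, SemidirectProduct.mul_left, SemidirectProduct.mul_left,
        SemidirectProduct.mul_right, SemidirectProduct.one_left] at hl
      simp only [g, act, MonoidHom.coe_mk, OneHom.coe_mk, Prod.mk_mul_mk, mul_one, map_one,
        ← QuotientGroup.mk_mul] at hl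
      have hl' : (v * slAct F u v * slAct F (u * u) v).toAdd = 0 := congrArg Multiplicative.toAdd hl
      rw [toAdd_mul, toAdd_mul, slAct_apply, slAct_apply] at hl'
      have h00 := congrFun (congrFun hl' 0) 0
      simp only [Matrix.add_apply, Matrix.SpecialLinearGroup.coe_mul, RingHom.mapMatrix_apply,
        Matrix.mul_apply, Fin.sum_univ_two, Matrix.transpose_apply, Matrix.map_apply,
        Matrix.zero_apply] at h00
      simp [u, v] at h00
      have e3 : (3 : F) = 0 := by exact_mod_cast CharP.cast_eq_zero F 3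
      have h1 : (1 : F) = 0 := by linear_combination (2 : F) * h00 - (3 : F) * e3
      exact one_ne_zero h1
    · exact pow_mul_three F (n := 3) hg3
  · obtain ⟨g, hg⟩ := CfsgLib.PSL2Spec.exists_orderOf_minus (F := F)
    refine ⟨SemidirectProduct.inr (g, -1), ?_⟩
    rw [gcd_two hF, hF] at hg
    rw [orderOf_inr, Prod.orderOf_mk, hg, orderOf_neg_one, Nat.Coprime.lcm_eq_mul]
    · omega
    · rw [Nat.coprime_comm, Nat.Prime.coprime_iff_not_dvd Nat.prime_two]
      omega
  · obtain ⟨g, hg⟩ := CfsgLib.PSL2Spec.exists_orderOf_plus (F := F) 3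
    refine ⟨SemidirectProduct.inr (g, 1), ?_⟩
    rw [gcd_two hF, hF] at hg
    rw [orderOf_inr, Prod.orderOf_mk, hg, orderOf_one, Nat.lcm_one_right]

end Finite

end CfsgLib.SpecBlow.ReeCube
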