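import Cfsg.Agent.SpecBlow.A10Data

/-! Exhaustive checks on the 240 matrices. -/

set_option autoImplicit false

namespace CfsgLib.SpecBlow.A10

/-- Product of matrices modulo 7 given as row-major lists. -/
def mul (a b : List Nat) : List Nat :=
  (List.range 16).map fun t =>
    (a.getD (4 * (t / 4)) 0 * b.getD (t % 4) 0 + a.getD (4 * (t / 4) + 1) 0 * b.getD (4 + t % 4) 0 +
      a.getD (4 * (t / 4) + 2) 0 * b.getD (8 + t % 4) 0 +
      a.getD (4 * (t / 4) + 3) 0 * b.getD (12 + t % 4) 0) % 7

/-- Sum of matrices modulo 7. -/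
def add (a b : List Nat) : List Nat :=
  (List.range 16).map fun t => (a.getD t 0 + b.getD t 0) % 7

/-- The identity matrix. -/
def one : List Nat := [1,0,0,0, 0,1,0,0, 0,0,1,0, 0,0,0,1]

/-- Minus the identity matrix. -/
def neg : List Nat := [6,0,0,0, 0,6,0,0, 0,0,6,0, 0,0,0,6]

/-- The zero matrix. -/
def zero : List Nat := [0,0,0,0, 0,0,0,0, 0,0,0,0, 0,0,0,0]

/-- Powers. -/
def pw (a : List Nat) : Nat → List Nat
  | 0 => one
  | n + 1 => mul (pw a n) a

/-- Sum of the first `n` powers. -/
def geom (a : List Nat) : Nat → List Nat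
  | 0 => zero
  | n + 1 => add (geom a n) (pw a n)

/-- The conditions on an element of the complement. -/
def good (a : List Nat) : Bool :=
  a == one || geom a 3 == zero || geom a 5 == zero || pw a 1 == neg || pw a 2 == neg ||
    pw a 3 == neg || pw a 4 == neg || pw a 5 == neg || pw a 6 == neg

theorem one_mem : one ∈ elems := by decide +kernel

theorem mul_g0_mem : ∀ a ∈ elems, mul a g0 ∈ elems := by decide +kernel

theorem mul_g1_mem : ∀ a ∈ elems, mul a g1 ∈ elems := by decide +kernel

theorem good_of_mem : ∀ a ∈ elems, good a = true := by decide +kernel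

end CfsgLib.SpecBlow.A10
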